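import Cfsg.Agent.Known.FiGrp
import Cfsg.Agent.Known.J2Out
import Cfsg.Agent.Ico.Eq

/-! Self-centralising Sylow subgroups of prime order (`selfc`, `selfc_quot`) and the Sylow 7-subgroups of `J2`
(`syl7`) (helper26). -/

set_option autoImplicit false

namespace Cfsg.Agent.HJ

open Subgroup Cfsg.Agent.Known

variable {G : Type*} [Group G] [Finite G]

theorem selfc {p n d : ℕ} [hp : Fact p.Prime] (hn : Nat.card G = n) (h2 : ¬ p ^ 2 ∣ n) {x : G}
    (hx : orderOf x = p) (hC : ∀ g, g * x = x * g → g ∈ zpowers x) (hd : n / p % p = d) (D : Sylow p G) :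
    centralizer ((D : Subgroup G) : Set G) = D ∧ Nat.card D = p ∧
      Nat.card (normalizer ((D : Subgroup G) : Set G)) = p * d := by
  have hX : Nat.card (zpowers x) = p ^ 1 := by rw [Nat.card_zpowers, hx, pow_one]
  obtain ⟨g, hg⟩ := Comp.exists_conj_sylow hX hn h2 D
  rw [map_conj_zp] at hg
  have ho : orderOf (g * x * g⁻¹) = p := by
    rw [← hx]; exact (MulAut.conj g).orderOf_eq x
  have hc : centralizer (zpowers (g * x * g⁻¹) : Set G) = zpowers (g * x * g⁻¹) := by
    refine le_antisymm (fun a ha => ?_) fun a ha => mem_cent_zp.2 ?_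
    · rw [mem_cent_zp] at ha
      have := hC (g⁻¹ * a * g) (by
        have e : g⁻¹ * a * g * x = g⁻¹ * (a * (g * x * g⁻¹)) * g := by group
        rw [e, ha]; group)
      rw [← map_conj_zp]
      exact ⟨_, this, by simp [mul_assoc]⟩
    · obtain ⟨i, rfl⟩ := ha
      exact ((Commute.refl _).zpow_left i).eq
  have hk : Nat.card (zpowers (g * x * g⁻¹)) = p := by rw [Nat.card_zpowers, ho]
  have e : Nat.card D = Nat.card (D : Subgroup G) := rfl
  rw [e, ← hg]
  exact ⟨hc, hk, card_normalizer_zpowers hp.out ho hn h2 (by rw [hc, hk]) hd⟩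

theorem selfc_quot {p d : ℕ} [hp : Fact p.Prime] {X : Subgroup G} (hC : centralizer (X : Set G) = X)
    (hX : Nat.card X = p) (hN : Nat.card (normalizer (X : Set G)) = p * d) :
    ∃ _ : (X.subgroupOf (normalizer (X : Set G))).Normal,
      IsCyclic (normalizer (X : Set G) ⧸ X.subgroupOf _) ∧ Nat.card (normalizer (X : Set G) ⧸ X.subgroupOf _) = d := by
  refine ⟨inferInstance, ?_, ?_⟩
  · haveI : IsCyclic X := isCyclic_of_prime_card hX
    have hk : X.normalizerMonoidHom.ker = X.subgroupOf _ := by rw [normalizerMonoidHom_ker, hC]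
    have e := (QuotientGroup.quotientMulEquivOfEq hk).symm.trans (QuotientGroup.quotientKerEquivRange _)
    haveI : IsCyclic (MulAut X) := by
      haveI : Fact (Nat.card X).Prime := ⟨hX ▸ hp.out⟩
      exact isCyclic_of_surjective _ (IsCyclic.mulAutMulEquiv X).symm.surjective
    exact isCyclic_of_surjective _ e.symm.surjective
  · have h1 := (X.subgroupOf (normalizer (X : Set G))).card_mul_index
    rw [Nat.card_congr (subgroupOfEquivOfLe le_normalizer).toEquiv, hX, hN] at h1
    exact Nat.eq_of_mul_eq_mul_left hp.out.pos h1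

omit [Finite G] in
theorem selfc_congr {H : Type*} [Group H] (e : G ≃* H) {x : H} (hC : ∀ g, g * x = x * g → g ∈ zpowers x) (g : G)
    (h : g * e.symm x = e.symm x * g) : g ∈ zpowers (e.symm x) := by
  obtain ⟨i, hi⟩ := hC (e g) (by simpa using congrArg e h)
  exact ⟨i, e.injective (by simpa using hi)⟩

omit [Finite G] in
theorem equivJ2 (h : Spor.IsoJ2 G) : Nonempty (G ≃* Spor.MdJ2.G) :=
  let ⟨e⟩ := h; ⟨e.trans Ico.equiv.some.symm⟩

theorem syl7 (h : Spor.IsoJ2 G) (D : Sylow 7 G) : centralizer ((D : Subgroup G) : Set G) = D ∧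
    Nat.card (normalizer ((D : Subgroup G) : Set G)) = 42 ∧
      ¬ IsMulCommutative (normalizer ((D : Subgroup G) : Set G)) := by
  obtain ⟨e⟩ := equivJ2 h
  haveI : Fact (Nat.Prime 7) := ⟨by norm_num⟩
  have r := J2O.mdl.rel_spec (by norm_num) J2O.rel
  obtain ⟨h1, h2, h3⟩ := selfc (d := 6) ((Nat.card_congr e.toEquiv).trans Spor.MdJ2.card) (by decide)
    ((e.symm.orderOf_eq _).trans r.2.1) (selfc_congr e (cent_conj r.2.2.2.1 (J2O.mdl.cent J2O.tpc))) (by decide) D
  refine ⟨h1, h3, fun hc => ?_⟩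
  have : normalizer ((D : Subgroup G) : Set G) ≤ centralizer ((D : Subgroup G) : Set G) := fun a ha b hb =>
    congrArg Subtype.val (hc.is_comm.comm ⟨b, le_normalizer hb⟩ ⟨a, ha⟩)
  have h4 := card_le_of_le this
  rw [h1, h3] at h4
  exact absurd (h4.trans_eq h2) (by decide)

end Cfsg.Agent.HJ
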