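import Cfsg.Agent.HJ.Loc

/-! The normaliser of `V = ⟨z, s⟩` (helper24): if `z` is conjugate to `s` there is `r` with the relations of `Amal`
(`Loc.exists_amal`); `Amal.base` lists the relators in the letters `let9`. -/

set_option autoImplicit false

namespace Cfsg.Agent.HJ

open Cfsg.Agent.Comp Cfsg.Agent.Spor Subgroup

variable {G : Type*} [Group G]

/-- Conjugation. -/
scoped notation "κ" => MulAut.conj

theorem cj_mul (g h p : G) : κ (g * h) p = κ g (κ h p) := by simp [mul_assoc]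
theorem cj_eq {g p q : G} : κ g p = q ↔ g * p = q * g := mul_inv_eq_iff_eq_mul
theorem cj_inj {g p q : G} : κ g p = κ g q ↔ p = q := (κ g).injective.eq_iff
theorem cj_one {g p : G} : κ g p = 1 ↔ p = 1 := (κ g).map_eq_one_iff
theorem cj_comm {g p q : G} : κ g p * κ g q = κ g q * κ g p ↔ p * q = q * p := by
  rw [← map_mul, ← map_mul, cj_inj]
theorem cj_inv {g p q : G} (h : κ g p = q) : κ g⁻¹ q = p := by rw [← h, ← cj_mul, inv_mul_cancel, map_one]; rfl
theorem cj_cj (g h p : G) : κ g (κ h p) = κ (κ g h) (κ g p) := by simp [mul_assoc]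
theorem memC {h z : G} : h ∈ centralizer {z} ↔ h * z = z * h := mem_centralizer_singleton_iff
theorem inv_of_sq {t : G} (h : t * t = 1) : t⁻¹ = t := inv_eq_of_mul_eq_one_right h

theorem zpow3 {a b : G} (h : a * a * a = 1) (hb : b ∈ zpowers a) : b = 1 ∨ b = a ∨ b = a⁻¹ := by
  obtain ⟨n, rfl⟩ := mem_zpowers_iff.1 hb
  have h3 : a ^ (3 : ℤ) = 1 := by rw [← h, zpow_ofNat, pow_three']
  rw [zpow_eq_zpow_emod n h3]
  have : n % 3 = 0 ∨ n % 3 = 1 ∨ n % 3 = 2 := by omega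
  rcases this with e | e | e <;> rw [e]
  · simp
  · simp
  · exact .inr (.inr (by rw [zpow_ofNat, pow_two]; exact eq_inv_of_mul_eq_one_left h))

theorem inW_iff {a w h : G} (h3 : a * a * a = 1) : InW a w h ↔ ∃ b ∈ zpowers a, h = κ b w := by
  constructor
  · rintro (e | e | e)
    exacts [⟨1, one_mem _, by simpa using e⟩, ⟨a, mem_zpowers a, e⟩, ⟨a⁻¹, inv_mem (mem_zpowers a), by simpa using e⟩]
  · rintro ⟨b, hb, rfl⟩
    rcases zpow3 h3 hb with rfl | rfl | rfl <;> simp [InW]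

/-- The nine letters. -/
def let9 (a x e s z t r : G) : ℕ → G :=
  scons a <| scons a⁻¹ <| scons x <| scons e <| scons s <| scons z <| scons t <| scons r <| scons r⁻¹ fun _ => 1

/-- The amalgam of `C(z)` and `N(V)`. -/
structure Amal (a x e s z t r : G) : Prop extends Loc a x e s z t where
  rrr : r * r * r = 1
  ra : κ r a = a
  rx : κ r (a * x * a⁻¹) = x
  rz : κ r z = s
  rs : κ r s = z * s
  tr : t * r * (t * r) = 1

namespace Loc

variable [Finite G] {a x e s z t : G} (L : Loc a x e s z t)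
include L

theorem szs : s * (z * s) = z := by rw [← mul_assoc, L.sz.eq, mul_assoc, L.ss, mul_one]
theorem zsz : z * s * z = s := by rw [mul_assoc, L.sz.eq, ← mul_assoc, L.zz, one_mul]
theorem kts : κ t s = z * s := by rw [MulAut.conj_apply, inv_of_sq L.tt, L.tst]
theorem ktz : κ t z = z := cj_eq.2 L.tz.eq
theorem aa1 : a * a ≠ 1 := fun h => L.a1 (by simpa [h] using L.aaa)

theorem exists_swap (hc : IsConj z s) : ∃ y : G, κ y z = s ∧ κ y s = z := by
  obtain ⟨g, hg⟩ := isConj_iff.1 hc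
  change κ g z = s at hg
  have h1 : κ g⁻¹ z * z = z * κ g⁻¹ z := by
    have := (cj_comm (g := g⁻¹)).2 L.sz.eq.symm
    rwa [cj_inv hg] at this
  have h2 : κ g (κ g⁻¹ z) = z := by rw [← cj_mul, mul_inv_cancel, map_one]; rfl
  rcases L.cl _ (memC.2 h1) (by rw [← map_mul, L.zz, map_one]) with h | h | ⟨k, hk, h⟩ | ⟨k, hk, h⟩
  · exact absurd (cj_one.1 h) L.z1
  · rw [h, hg] at h2; exact absurd h2 L.sz'
  · have e1 : κ (g * k) z = s := by rw [cj_mul, cj_eq.2 (memC.1 hk), hg]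
    have e2 : κ (g * k) x = z := by rw [cj_mul, cj_eq.2 h, h2]
    have := (L.cx (κ (g * k)⁻¹ a) (memC.2 (by rw [← cj_inv e1]; exact cj_comm.2 L.as.eq))
      (by rw [← cj_inv e2]; exact cj_comm.2 L.az.eq)).1.1
    rw [← map_mul] at this
    exact absurd (cj_one.1 this) L.aa1
  · exact ⟨g * k, by rw [cj_mul, cj_eq.2 (memC.1 hk), hg], by rw [cj_mul, cj_eq.2 h, h2]⟩

theorem exists_tau (hc : IsConj z s) : ∃ τ : G, κ τ z = z * s ∧ κ τ s = z ∧ (κ τ a = a ∨ κ τ a = a⁻¹) := by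
  obtain ⟨y, h1, h2⟩ := L.exists_swap hc
  have e1 : κ (t * y) z = z * s := by rw [cj_mul, h1, L.kts]
  have e2 : κ (t * y) s = z := by rw [cj_mul, h2, L.ktz]
  have e3 : κ (t * y) (z * s) = s := by rw [map_mul, e1, e2, L.zsz]
  rcases (L.cs (κ (t * y) a) (memC.2 (by rw [← e2]; exact cj_comm.2 L.as.eq))
    (by rw [← e3]; exact cj_comm.2 (L.az.mul_right L.as).eq)).1 (by rw [← map_mul, ← map_mul, L.aaa, map_one])
    with h | ⟨k, hk, hs, h⟩
  · exact absurd (cj_one.1 h) L.a1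
  · refine ⟨k * (t * y), ?_, ?_, ?_⟩
    · rw [cj_mul, e1, map_mul, cj_eq.2 (memC.1 hk), cj_eq.2 hs]
    · rw [cj_mul, e2, cj_eq.2 (memC.1 hk)]
    · rw [cj_mul]; exact h.imp cj_eq.2 cj_eq.2

theorem exists_rho (hc : IsConj z s) : ∃ ρ : G, κ ρ z = s ∧ κ ρ s = z * s ∧ κ ρ a = a ∧ κ ρ x = x := by
  obtain ⟨τ, e1, e2, ha⟩ := L.exists_tau hc
  have e3 : κ τ (z * s) = s := by rw [map_mul, e1, e2, L.zsz]
  have W : ∀ w, w * z = z * w → w * s = s * w → w * w = 1 → a * w * (a * w) * (a * w) = 1 → w ≠ 1 →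
      κ τ w ∈ centralizer {z} ∧ (InW a x (κ τ w) ∨ InW a (t * x * t) (κ τ w)) := fun w h1 h2 h3 h4 h5 => by
    have m : κ τ w ∈ centralizer {z} := memC.2 (by rw [← e2]; exact cj_comm.2 h2)
    have q : κ τ w * κ τ w = 1 := by rw [← map_mul, h3, map_one]
    have c : κ τ a * κ τ w * (κ τ a * κ τ w) * (κ τ a * κ τ w) = 1 := by simp only [← map_mul, h4, map_one]
    refine ⟨m, ((L.cs _ m (by rw [← e3]; exact cj_comm.2 (Commute.mul_right h1 h2).eq)).2.1 q ?_).resolve_left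
      fun h => h5 (cj_one.1 h)⟩
    rcases ha with ha | ha <;> rw [ha] at c
    · exact c
    · generalize κ τ w = p at c q
      have := congrArg (fun u => a * u⁻¹ * a⁻¹) c
      simpa [inv_of_sq q, mul_assoc] using this
  have B : ∀ w w' p, InW a w p → InW a w' (κ τ w) → InW a w' (κ τ p) := fun w w' p h1 h2 => by
    obtain ⟨b, hb, rfl⟩ := (inW_iff L.aaa).1 h1
    obtain ⟨c, hc, h⟩ := (inW_iff L.aaa).1 h2
    refine (inW_iff L.aaa).2 ⟨κ τ b * c, mul_mem ?_ hc, by rw [cj_cj, h, cj_mul]⟩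
    rcases zpow3 L.aaa hb with rfl | rfl | rfl
    · rw [map_one]; exact one_mem _
    · rcases ha with ha | ha <;> simp [ha, -MulAut.conj_apply]
    · rcases ha with ha | ha <;> simp [ha, -MulAut.conj_apply]
  have hx := W x L.xz.eq L.xs.eq L.xx L.eqs.2.2.2.1 L.x1
  have hW : InW a x (κ τ (κ τ x)) := by
    rcases hx.2 with h | h
    · exact B _ _ _ h h
    · have h2 := W (t * x * t) ((L.tz.mul_left L.xz).mul_left L.tz).eq L.eqs.2.2.2.2.2.1
        (by rw [show t * x * t * (t * x * t) = t * x * (t * t) * x * t by group, L.tt, mul_one, mul_assoc t, L.xx,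
          mul_one, L.tt]) L.eqs.2.2.2.2.1 (fun h => L.nes.2.1 (by rw [h, mul_one, one_mul]))
      rcases h2.2 with h' | h'
      · exact B _ _ _ h h'
      · exact absurd (cj_comm.1 (L.cw _ hx.1 h _ h2.1 h')).symm L.nes.2.1
  obtain ⟨b, hb, h⟩ := (inW_iff L.aaa).1 hW
  have c : ∀ u, Commute a u → κ b⁻¹ u = u := fun u hu => by
    obtain ⟨n, rfl⟩ := mem_zpowers_iff.1 hb
    exact cj_eq.2 (hu.zpow_left n).inv_left.eq
  refine ⟨b⁻¹ * (τ * τ), ?_, ?_, ?_, ?_⟩ <;> rw [cj_mul, cj_mul]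
  · rw [e1, e3, c _ L.as]
  · rw [e2, e1, c _ (L.az.mul_right L.as)]
  · rcases ha with ha | ha
    · rw [ha, ha, c _ rfl]
    · rw [ha, map_inv (κ τ), ha, inv_inv, c _ rfl]
  · exact cj_inv h.symm

theorem rho_cube {ρ : G} (e1 : κ ρ z = s) (e2 : κ ρ s = z * s) (e3 : κ ρ a = a) (e4 : κ ρ x = x) :
    ρ * ρ * ρ = 1 := by
  have e5 : κ ρ (z * s) = z := by rw [map_mul, e1, e2, L.szs]
  have f : κ ρ (ρ * ρ * ρ) = ρ * ρ * ρ := by simp [mul_assoc]
  rcases ((L.cs (ρ * ρ * ρ) (memC.2 (cj_eq.1 (by rw [cj_mul, cj_mul, e1, e2, e5])))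
    (cj_eq.1 (by rw [cj_mul, cj_mul, e2, e5, e1]))).2.2.2 (cj_eq.1 (by rw [cj_mul, cj_mul, e3, e3, e3]))).1
    (cj_eq.1 (by rw [cj_mul, cj_mul, e4, e4, e4])) with h | h | h | h
  · exact h
  · rw [h, e1] at f; exact absurd f L.sz'
  · rw [h, e2] at f; exact absurd (by simpa using f) L.z1
  · rw [h, e5] at f; exact absurd (by simpa using f) L.s1

theorem amal_of_cube {ρ : G} (e1 : κ ρ z = s) (e2 : κ ρ s = z * s) (e3 : κ ρ a = a) (e4 : κ ρ x = x)
    (h : t * ρ * (t * ρ) = 1 ∨ t * ρ * (t * ρ) = a ∨ t * ρ * (t * ρ) = a⁻¹) : Amal a x e s z t (ρ * a⁻¹) := by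
  have h3 := L.rho_cube e1 e2 e3 e4
  have ca : Commute ρ a := cj_eq.1 e3
  have k : ∀ b, t * ρ * (t * ρ) = b → x * (t * (b * x * b⁻¹) * t) * (x * (t * (b * x * b⁻¹) * t)) = s := fun b hb => by
    have k1 : κ ρ t = t * b * ρ := by
      rw [cj_eq, ← hb, show t * (t * ρ * (t * ρ)) * ρ * ρ = t * t * (ρ * t) * (ρ * ρ * ρ) by group, L.tt, h3]; group
    have k2 : κ ρ t = (t * b * ρ)⁻¹ := by rw [← k1, ← map_inv, inv_of_sq L.tt]
    have k3 : κ ρ (t * x * t) = t * (b * x * b⁻¹) * t := by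
      rw [map_mul, map_mul, e4]; nth_rw 1 [k1]; rw [k2]
      nth_rw 2 [← e4]
      simp [mul_assoc, inv_of_sq L.tt]
    rw [← k3, ← e1, ← L.nes.2.2.2.1, map_mul (κ ρ) (x * _), map_mul (κ ρ) x, e4]
  rcases h with h | h | h
  · have := k _ h
    rw [one_mul, inv_one, mul_one, L.nes.2.2.2.1] at this
    exact absurd this.symm L.sz'
  · have := k _ h
    rw [L.nes.2.2.2.2] at this
    exact absurd (by simpa using this) L.z1
  refine ⟨L, ?_, ?_, ?_, ?_, ?_, ?_⟩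
  · have := ca.inv_right.mul_pow 3
    rwa [inv_pow, pow_three', pow_three', pow_three', h3, L.aaa, inv_one, mul_one] at this
  · rw [cj_mul, cj_eq.2 (by group : a⁻¹ * a = a * a⁻¹), e3]
  · rw [cj_mul, cj_inv (g := a) (p := x) (q := a * x * a⁻¹) rfl, e4]
  · rw [cj_mul, cj_eq.2 L.az.inv_left.eq, e1]
  · rw [cj_mul, cj_eq.2 L.as.inv_left.eq, e2]
  · have := (L.at'.symm.mul_left ca).inv_right.mul_pow 2
    rw [pow_two, pow_two, pow_two, h, ← mul_inv_rev, ← mul_inv_rev, L.aaa, inv_one] at this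
    rw [← mul_assoc t ρ]; exact this

theorem exists_amal (hc : IsConj z s) : ∃ r, Amal a x e s z t r := by
  obtain ⟨ρ, e1, e2, e3, e4⟩ := L.exists_rho hc
  have K : ∀ ρ, κ ρ z = s → κ ρ s = z * s → κ ρ a = a → κ (t * ρ) z = z * s ∧ κ (t * ρ) (z * s) = z ∧
      InV s z (t * ρ * (t * ρ) * (t * ρ * (t * ρ)) * (t * ρ * (t * ρ))) ∧
      (t * ρ * (t * ρ) * (t * ρ * (t * ρ)) * (t * ρ * (t * ρ)) = 1 →
        t * ρ * (t * ρ) = 1 ∨ t * ρ * (t * ρ) = a ∨ t * ρ * (t * ρ) = a⁻¹) := fun ρ e1 e2 e3 => by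
    have f1 : κ (t * ρ) z = z * s := by rw [cj_mul, e1, L.kts]
    have f2 : κ (t * ρ) s = s := by rw [cj_mul, e2, map_mul, L.ktz, L.kts, ← mul_assoc, L.zz, one_mul]
    have f3 : κ (t * ρ) (z * s) = z := by rw [map_mul, f1, f2, mul_assoc, L.ss, mul_one]
    have f4 : κ (t * ρ) a = a := by rw [cj_mul, e3, cj_eq.2 L.at'.symm.eq]
    exact ⟨f1, f3, ((L.cs (t * ρ * (t * ρ)) (memC.2 (cj_eq.1 (by rw [cj_mul, f1, f3])))
      (cj_eq.1 (by rw [cj_mul, f2, f2]))).2.2.2 (cj_eq.1 (by rw [cj_mul, f4, f4]))).2⟩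
  obtain ⟨f1, f3, k1, k2⟩ := K ρ e1 e2 e3
  have f : κ (t * ρ) (t * ρ * (t * ρ) * (t * ρ * (t * ρ)) * (t * ρ * (t * ρ))) =
      t * ρ * (t * ρ) * (t * ρ * (t * ρ)) * (t * ρ * (t * ρ)) := by simp [mul_assoc]
  rcases k1 with h | h | h | h
  · exact ⟨_, L.amal_of_cube e1 e2 e3 e4 (k2 h)⟩
  · rw [h, f1] at f; exact absurd (by simpa using f) L.s1
  · have g1 : κ (ρ * z) z = s := by rw [cj_mul, cj_eq.2 rfl, e1]
    have g2 : κ (ρ * z) s = z * s := by rw [cj_mul, cj_eq.2 L.sz.symm.eq, e2]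
    have g3 : κ (ρ * z) a = a := by rw [cj_mul, cj_eq.2 L.az.symm.eq, e3]
    refine ⟨_, L.amal_of_cube g1 g2 g3 (by rw [cj_mul, cj_eq.2 L.xz.symm.eq, e4]) ((K _ g1 g2 g3).2.2.2 ?_)⟩
    have cz : Commute (t * ρ * (t * ρ)) z := cj_eq.1 (by rw [cj_mul, f1, f3])
    have cs : Commute (t * ρ * (t * ρ)) s := by
      rw [← h]; exact (Commute.mul_right (Commute.mul_right rfl rfl) rfl)
    have : t * (ρ * z) * (t * (ρ * z)) = s * (t * ρ * (t * ρ)) := by
      rw [show t * (ρ * z) * (t * (ρ * z)) = κ (t * ρ) z * (t * ρ * (t * ρ) * z) by simp [mul_assoc], f1, cz.eq,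
        ← mul_assoc, L.zsz]
    rw [this, ← pow_three', cs.symm.mul_pow, pow_three', pow_three', h, L.ss, one_mul, L.ss]
  · rw [h, f3] at f; exact absurd (by simpa using f) L.s1

end Loc

theorem ev_congr' {M : Type*} [Monoid M] {g g' : ℕ → M} {w : List ℕ} (h : ∀ i ∈ w, g i = g' i) : ev g w = ev g' w := by
  induction w with
  | nil => rfl
  | cons i w ih => rw [ev_cons, ev_cons, h i List.mem_cons_self, ih fun j hj => h j (List.mem_cons_of_mem _ hj)]

theorem let9_lt (a x e s z t r : G) (i : ℕ) (hi : i < 7) : let9 a x e s z t r i = lets a x e s z t i := by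
  interval_cases i <;> rfl

theorem let9_ge (a x e s z t r : G) (i : ℕ) (hi : 9 ≤ i) : let9 a x e s z t r i = 1 := by
  obtain ⟨k, rfl⟩ := Nat.exists_eq_add_of_le' hi; rfl

/-- The relators of the amalgam. -/
def baseRels : List (List ℕ) :=
  JHJ0.rels ++ [[8, 7], [7, 8], [7, 7, 7], [1, 8, 0, 7], [2, 8, 1, 2, 0, 7], [4, 8, 5, 7], [7, 6, 7, 6], [4, 5, 8, 4, 7]]

namespace Amal

variable [Finite G] {a x e s z t r : G} (M : Amal a x e s z t r)
include M

theorem base : ∀ w ∈ baseRels, ev (let9 a x e s z t r) w = 1 := fun w hw => by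
  rcases List.mem_append.1 hw with h | h
  · rw [← M.rels w h]
    refine ev_congr' fun i hi => let9_lt _ _ _ _ _ _ _ i ?_
    have := List.all_eq_true.1 (List.all_eq_true.1 (by decide : (JHJ0.rels.all fun w => w.all (· < 7)) = true) w h) i hi
    simpa using this
  · simp only [List.mem_cons, List.not_mem_nil, or_false] at h
    rcases h with rfl | rfl | rfl | rfl | rfl | rfl | rfl | rfl
    · change 1 * r * r⁻¹ = 1; group
    · change 1 * r⁻¹ * r = 1; group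
    · change 1 * r * r * r = 1; rw [one_mul, M.rrr]
    · change 1 * r * a * r⁻¹ * a⁻¹ = 1; rw [one_mul, ← MulAut.conj_apply, M.ra, mul_inv_cancel]
    · change 1 * r * a * x * a⁻¹ * r⁻¹ * x = 1
      rw [show 1 * r * a * x * a⁻¹ * r⁻¹ = κ r (a * x * a⁻¹) by simp [mul_assoc], M.rx, M.xx]
    · change 1 * r * z * r⁻¹ * s = 1; rw [one_mul, ← MulAut.conj_apply, M.rz, M.ss]
    · change 1 * t * r * t * r = 1; rw [one_mul, mul_assoc, M.tr]
    · change 1 * r * s * r⁻¹ * z * s = 1; rw [one_mul, ← MulAut.conj_apply, M.rs, M.zsz, M.ss]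

theorem base' {w : List ℕ} (h : ev (let9 a x e s z t r) w = 1) :
    ∀ u ∈ w :: baseRels, ev (let9 a x e s z t r) u = 1 := List.forall_mem_cons.2 ⟨h, M.base⟩

theorem subs_mem : ∀ w ∈ [[0], [2], [3], [4], [5], [6]], ev (let9 a x e s z t r) w ∈ centralizer {z} := by
  simp only [List.forall_mem_cons, ev_cons, ev_nil, one_mul]
  exact ⟨memC.2 M.az.eq, memC.2 M.xz.eq, memC.2 M.ez.eq, memC.2 M.sz.eq, memC.2 rfl, memC.2 M.tz.eq, by simp⟩

theorem not_mem : r ∉ centralizer {z} := fun h => M.sz' (by rw [← M.rz, cj_eq.2 (memC.1 h)])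

/-- A collapsing enumeration is a contradiction. -/
theorem collapse (h : (∀ w ∈ [[0], [2], [3], [4], [5], [6]], ev (let9 a x e s z t r) w • basePt (centralizer {z}) =
    basePt (centralizer {z})) → ∀ u ∈ [(([], 7, []) : Seed)], SeedOk (let9 a x e s z t r) (basePt (centralizer {z})) u) :
    False :=
  M.not_mem (one_mul r ▸
    mem_of_seeds (w := [7]) (h fun w hw => (smul_basePt_eq_iff _ _).2 (M.subs_mem w hw)) (by decide))

end Amal

end Cfsg.Agent.HJ
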