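import Cfsg.Agent.HJ.TabQ
import Cfsg.Agent.HJ.Rho
import Cfsg.Agent.LES.Basic
import Cfsg.Agent.Transfer.Abelian

/-! An extraspecial group of order 32 with an automorphism of order five (helper24): `Five Q z s` (five pairwise
anticommuting involutions with product one), `exists_five`, `Five.invol`, `Five.fix`. -/

set_option autoImplicit false
set_option maxRecDepth 100000

namespace Cfsg.Agent.HJ

open Cfsg.Agent.Comp Cfsg.Agent.Spor Subgroup Cfsg.Agent.LES

variable {G : Type*} [Group G] {Q : Subgroup G} {z : G}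

/-- The letters of `Q`. -/
def qlet (s : Fin 5 → G) (z : G) : ℕ → G :=
  scons (s 0) <| scons (s 1) <| scons (s 2) <| scons (s 3) <| scons (s 4) <| scons z fun _ => 1

/-- Five pairwise anticommuting involutions with product one generating `Q`. -/
structure Five (Q : Subgroup G) (z : G) (s : Fin 5 → G) : Prop where
  mem : ∀ i, s i ∈ Q
  sq : ∀ i, s i * s i = 1
  ac : ∀ i j, i ≠ j → ¬ Commute (s i) (s j)
  prod : s 0 * s 1 * s 2 * s 3 * s 4 = 1
  gen : genL (qlet s z) (List.range 6) = Q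

/-- An automorphism of order five acting irreducibly on `Q/⟨z⟩`. -/
structure Ord5 (Q : Subgroup G) (z : G) (φ : MulAut G) : Prop where
  mem : ∀ q ∈ Q, φ q ∈ Q
  fz : φ z = z
  five : ∀ u, φ (φ (φ (φ (φ u)))) = u
  cf : ∀ q ∈ Q, φ q = q → q = 1 ∨ q = z
  irr : ∀ E ≤ Q, z ∈ E → (∀ q ∈ E, φ q ∈ E) → (∀ q ∈ E, q = 1 ∨ q = z) ∨ E = Q

theorem not_comm_mul {a b c : G} (h1 : ¬ Commute a c) (h2 : Commute b c) : ¬ Commute (a * b) c := fun h =>
  h1 (by simpa using h.mul_left h2.inv_left)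

theorem not_comm_mul' {a b c : G} (h1 : Commute a c) (h2 : ¬ Commute b c) : ¬ Commute (a * b) c := fun h =>
  h2 (by simpa using h1.inv_left.mul_left h)

theorem comm_map (φ : MulAut G) {a b : G} : Commute (φ a) (φ b) ↔ Commute a b := by
  rw [commute_iff_eq, ← map_mul, ← map_mul, φ.injective.eq_iff, commute_iff_eq]

namespace Ord5

variable {φ : MulAut G} (O : Ord5 Q z φ)
include O

theorem sq : Ord5 Q z (φ * φ) := by
  have k : ∀ u, φ u = (φ * φ) ((φ * φ) ((φ * φ) u)) := fun u => (O.five (φ u)).symm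
  refine ⟨fun q hq => O.mem _ (O.mem q hq), by rw [MulAut.mul_apply, O.fz, O.fz], fun u => ?_,
    fun q hq h => O.cf q hq (by rw [k, h, h, h]), fun E h1 h2 h3 => O.irr E h1 h2 fun q hq => ?_⟩
  · simp only [MulAut.mul_apply, O.five]
  · rw [k]; exact h3 _ (h3 _ (h3 _ hq))

variable [Finite G] (h : ES Q z) {u : G} (hu : u ∈ Q) (h2 : u * u = 1)
include h hu h2

theorem good' (c1 : ¬ Commute u (φ u)) (c2 : ¬ Commute u (φ (φ u)))
    (hp : u * φ u * φ (φ u) * φ (φ (φ u)) * φ (φ (φ (φ u))) = 1) : ∃ s, Five Q z s := by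
  let s : Fin 5 → G := ![u, φ u, φ (φ u), φ (φ (φ u)), φ (φ (φ (φ u)))]
  have m : ∀ i, s i ∈ Q := fun i => by
    fin_cases i
    exacts [hu, O.mem _ hu, O.mem _ (O.mem _ hu), O.mem _ (O.mem _ (O.mem _ hu)), O.mem _ (O.mem _ (O.mem _ (O.mem _ hu)))]
  have d1 : ¬ Commute u (φ (φ (φ (φ u)))) := fun e => c1 (by simpa only [O.five] using ((comm_map φ).2 e).symm)
  have d2 : ¬ Commute u (φ (φ (φ u))) := fun e =>
    c2 (by simpa only [O.five] using ((comm_map φ).2 ((comm_map φ).2 e)).symm)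
  refine ⟨s, m, fun i => by fin_cases i <;> simp [s, ← map_mul, h2], fun i j hij => ?_, hp, ?_⟩
  · have c1' := mt Commute.symm c1
    have c2' := mt Commute.symm c2
    have d1' := mt Commute.symm d1
    have d2' := mt Commute.symm d2
    fin_cases i <;> fin_cases j <;> first | exact absurd rfl hij | simpa [s, comm_map]
  · have l : ∀ i, s i ∈ genL (qlet s z) (List.range 6) := fun i => by
      fin_cases i
      exacts [mem_genL _ (x := 0) (by decide), mem_genL _ (x := 1) (by decide), mem_genL _ (x := 2) (by decide),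
        mem_genL _ (x := 3) (by decide), mem_genL _ (x := 4) (by decide)]
    have lz : z ∈ genL (qlet s z) (List.range 6) := mem_genL _ (x := 5) (by decide)
    refine (O.irr _ (genL_le fun i hi => ?_) lz fun q hq => ?_).resolve_left fun e => ?_
    · have := List.mem_range.1 hi
      interval_cases i
      exacts [m 0, m 1, m 2, m 3, m 4, h.zQ]
    · refine genL_le (H := (genL (qlet s z) (List.range 6)).comap φ.toMonoidHom) (fun i hi => ?_) hq
      have := List.mem_range.1 hi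
      interval_cases i
      exacts [l 1, l 2, l 3, l 4, mem_comap.2 (Set.mem_of_eq_of_mem (O.five u) (l 0)),
        mem_comap.2 (Set.mem_of_eq_of_mem O.fz lz)]
    · rcases e u (l 0) with e | e
      · exact c1 (e ▸ Commute.one_left _)
      · exact c1 (by rw [e, O.fz])

theorem good (c1 : ¬ Commute u (φ u)) (c2 : ¬ Commute u (φ (φ u))) : ∃ s, Five Q z s := by
  have m1 := O.mem u hu
  have m2 := O.mem _ m1
  have m3 := O.mem _ m2
  have m4 := O.mem _ m3
  have d1 : ¬ Commute (φ (φ (φ (φ u)))) u := fun e => c1 (by simpa only [O.five] using (comm_map φ).2 e)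
  have d2 : ¬ Commute (φ (φ (φ u))) u := fun e => c2 (by simpa only [O.five] using (comm_map φ).2 ((comm_map φ).2 e))
  have k := (h.mul_comm_of m1 m2 hu (mt Commute.symm c1) (mt Commute.symm c2)).mul_left (h.mul_comm_of m3 m4 hu d2 d1)
  rcases O.cf _ (mul_mem (mul_mem (mul_mem (mul_mem hu m1) m2) m3) m4) (by
    simp only [map_mul, O.five]; simpa only [mul_assoc] using k.eq) with e | e
  · exact O.good' h hu h2 c1 c2 e
  · have z0 := h.zc u hu
    refine O.good' h (mul_mem hu h.zQ) (by rw [← pow_two, z0.mul_pow, pow_two, pow_two, h2, h.zz, one_mul]) ?_ ?_ ?_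
    · rw [map_mul, O.fz]
      exact not_comm_mul (mt Commute.symm (not_comm_mul (mt Commute.symm c1) z0.symm)) (h.zc _ (mul_mem m1 h.zQ)).symm
    · rw [map_mul, map_mul, O.fz, O.fz]
      exact not_comm_mul (mt Commute.symm (not_comm_mul (mt Commute.symm c2) z0.symm)) (h.zc _ (mul_mem m2 h.zQ)).symm
    · have k : ∀ p q, q ∈ Q → p * z * q = p * q * z := fun p q hq => by rw [mul_assoc, ← (h.zc q hq).eq, mul_assoc]
      simp only [map_mul, O.fz, ← mul_assoc, k _ _ m1, k _ _ m2, k _ _ m3, k _ _ m4, e]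
      simp only [mul_assoc, h.zz, mul_one]

theorem pent (c1 : Commute u (φ u)) (c2 : ¬ Commute u (φ (φ u))) : ∃ s, Five Q z s := by
  have m1 := O.mem u hu
  have m2 := O.mem _ m1
  have m3 := O.mem _ m2
  have d2 : ¬ Commute (φ (φ (φ u))) u := fun e => c2 (by simpa only [O.five] using (comm_map φ).2 ((comm_map φ).2 e))
  refine O.good h (mul_mem hu m1) (by rw [← pow_two, c1.mul_pow, pow_two, pow_two, h2, ← map_mul, h2]; simp) ?_ ?_
  · rw [map_mul]
    exact not_comm_mul (mt Commute.symm (not_comm_mul' c1.symm (mt Commute.symm c2)))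
      ((Commute.refl _).mul_right ((comm_map φ).2 c1))
  · rw [map_mul, map_mul]
    exact not_comm_mul' (h.mul_comm_of m2 m3 hu (mt Commute.symm c2) d2).symm
      (mt Commute.symm (not_comm_mul' ((comm_map φ).2 c1).symm (mt Commute.symm (mt (comm_map φ).1 c2))))

theorem exists_five (h1 : u ≠ 1) (hz : u ≠ z) : ∃ s, Five Q z s := by
  by_cases c1 : Commute u (φ u) <;> by_cases c2 : Commute u (φ (φ u))
  · exfalso
    have d1 : Commute u (φ (φ (φ (φ u)))) := by simpa only [O.five] using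
      ((comm_map φ).2 ((comm_map φ).2 ((comm_map φ).2 ((comm_map φ).2 c1)))).symm
    have d2 : Commute u (φ (φ (φ u))) := by simpa only [O.five] using
      ((comm_map φ).2 ((comm_map φ).2 ((comm_map φ).2 c2))).symm
    have m1 := O.mem u hu
    have m2 := O.mem _ m1
    have m3 := O.mem _ m2
    have m4 := O.mem _ m3
    have mem : ∀ q, q ∈ Q ⊓ centralizer {u, φ u, φ (φ u), φ (φ (φ u)), φ (φ (φ (φ u)))} ↔ q ∈ Q ∧ Commute u q ∧
        Commute (φ u) q ∧ Commute (φ (φ u)) q ∧ Commute (φ (φ (φ u))) q ∧ Commute (φ (φ (φ (φ u)))) q := fun q => by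
      simp [mem_centralizer_iff, commute_iff_eq]
    rcases O.irr _ inf_le_left ((mem z).2 ⟨h.zQ, h.zc _ hu, h.zc _ m1, h.zc _ m2, h.zc _ m3, h.zc _ m4⟩)
      (fun q hq => by
        obtain ⟨a, b0, b1, b2, b3, b4⟩ := (mem q).1 hq
        exact (mem _).2 ⟨O.mem q a, by simpa only [O.five] using (comm_map φ).2 b4, (comm_map φ).2 b0,
          (comm_map φ).2 b1, (comm_map φ).2 b2, (comm_map φ).2 b3⟩) with e | e
    · exact (e u ((mem u).2 ⟨hu, rfl, c1.symm, c2.symm, d2.symm, d1.symm⟩)).elim h1 hz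
    · exact (h.cen u hu fun y hy => ((mem y).1 (e.symm ▸ hy)).2.1).elim h1 hz
  · exact O.pent h hu h2 c1 c2
  · exact O.sq.pent h hu h2 c2 fun e => c1 (by simpa only [MulAut.mul_apply, O.five] using ((comm_map φ).2 e).symm)
  · exact O.good h hu h2 c1 c2

end Ord5

variable [Finite G]

theorem exists_ord5 (h : LE Q z) (h32 : Nat.card Q = 32) (h5 : 5 ∣ Nat.card (centralizer ({z} : Set G))) :
    ∃ φ, Ord5 Q z φ := by
  have : Fact (Nat.Prime 5) := ⟨Nat.prime_five⟩
  obtain ⟨⟨f, hf⟩, o⟩ := exists_prime_orderOf_dvd_card' 5 h5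
  replace o : orderOf f = 5 := (orderOf_coe (⟨f, hf⟩ : centralizer {z})).trans o
  have f5 : f ^ 5 = 1 := o ▸ pow_orderOf_eq_one f
  have P : IsPGroup 5 (zpowers f) := Invol.isPGroup_zpowers (n := 1) f5
  have two : ∀ E : Subgroup G, z ∈ E → Nat.card E = 2 → ∀ q ∈ E, q = 1 ∨ q = z := fun E hz hE q hq => by
    rw [← mem_zp h.z2, eq_of_le_of_card_ge (zpowers_le.2 hz) (by rw [hE, Nat.card_zpowers, h.z2])]; exact hq
  have dv : ∀ E ≤ Q, Nat.card E % 5 = 2 → Nat.card E = 2 ∨ E = Q := fun E hE hm => by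
    have := card_dvd_of_le hE
    rw [h32, show 32 = 2 ^ 5 from rfl, Nat.dvd_prime_pow Nat.prime_two] at this
    obtain ⟨k, hk, e⟩ := this
    rw [e] at hm
    interval_cases k <;> simp at hm
    · exact .inl e
    · exact .inr (eq_of_le_of_card_ge hE (by rw [e, h32]; rfl))
  have mz : z ∈ centralizer (zpowers f : Set G) := mem_centralizer_iff.2 (by
    rintro _ ⟨k, rfl⟩; exact (Commute.zpow_left (memC.1 hf) k).eq)
  have cf : ∀ q ∈ Q ⊓ centralizer (zpowers f : Set G), q = 1 ∨ q = z := by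
    have := Transfer.card_modEq_card_inf_centralizer P (zpowers_le.2 (h.nQ f (memC.1 hf)))
    rw [h32] at this
    rcases dv _ inf_le_left this.symm with e | e
    · exact two _ ⟨h.zQ, mz⟩ e
    · rcases h.cQ f fun y hy => (e.ge hy).2 f (mem_zpowers f) with e | e
      · rw [e, orderOf_one] at o; omega
      · rw [e, h.z2] at o; omega
  refine ⟨κ f, fun q hq => h.conj_mem (memC.1 hf) hq, cj_eq.2 (memC.1 hf), fun u => ?_, fun q hq e => cf q ⟨hq, ?_⟩,
    fun E h1 h2 h3 => ?_⟩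
  · simp only [← cj_mul]
    rw [show f * (f * (f * (f * f))) = f ^ 5 by simp only [pow_succ', pow_zero, mul_one], f5, map_one]; rfl
  · rintro _ ⟨k, rfl⟩; exact (Commute.zpow_left (cj_eq.1 e) k).eq
  · have := Transfer.card_modEq_card_inf_centralizer (Q := E) P (zpowers_le.2 (mem_normalizer_fintype h3))
    have e : E ⊓ centralizer (zpowers f : Set G) = zpowers z := le_antisymm
      (fun q hq => (mem_zp h.z2).2 (cf q ⟨h1 hq.1, hq.2⟩)) (zpowers_le.2 ⟨h2, mz⟩)
    rw [e, Nat.card_zpowers, h.z2] at this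
    exact (dv E h1 this).imp_left (two E h2)

theorem exists_five (h : LE Q z) (h32 : Nat.card Q = 32) (h5 : 5 ∣ Nat.card (centralizer ({z} : Set G))) :
    ∃ s, Five Q z s := by
  obtain ⟨φ, O⟩ := exists_ord5 h h32 h5
  have k : ∀ u ∈ Q, ∀ v ∈ Q, ¬ Commute u v → u * u = 1 → ∃ s, Five Q z s := fun u hu v hv c e =>
    O.exists_five h.toES hu e (fun e => c (e ▸ Commute.one_left _)) fun e => c (e ▸ (h.zc v hv).symm)
  obtain ⟨p, hp, q, hq, c⟩ := h.nab
  rcases h.sq p hp with e | e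
  · exact k p hp q hq c e
  obtain ⟨a, ha, b, hb, c1, c2, c3⟩ := h.nab_cent (by omega) hp
  rcases h.sq a ha with e' | e'
  · exact k a ha b hb c3 e'
  · exact k _ (mul_mem ha hp) b hb (not_comm_mul c3 c2.symm)
      (by rw [← pow_two, c1.mul_pow, pow_two, pow_two, e, e', h.zz])

/-- Equality up to `z`. -/
abbrev PM (z p q : G) : Prop := p = q ∨ p = q * z

open F in
/-- The sign fixing formula. -/
def fixF (i j k l m : ℕ) : Fm :=
  let pm (n : ℕ) : Fm := (.v 0 ≐ .g n) ⋎ (.v 0 ≐ .g n * .g 5)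
  .all (pm 0 ⟹ .all (pm 1 ⟹ .all (pm 2 ⟹ .all (pm 3 ⟹ .all (pm 4 ⟹ (.v i * .v j * .v k * .v l * .v m ≐ 1) ⟹
    .ex ((.v 0 * .v 5 ≐ .g 0 * .v 0) ⋏ (.v 0 * .v 4 ≐ .g 1 * .v 0) ⋏ (.v 0 * .v 3 ≐ .g 2 * .v 0) ⋏
      (.v 0 * .v 2 ≐ .g 3 * .v 0) ⋏ (.v 0 * .v 1 ≐ .g 4 * .v 0)))))))

namespace Five

open F

variable {s : Fin 5 → G} (V : Five Q z s) (h : ES Q z)
include V h

theorem ac' {i j : Fin 5} (hij : i ≠ j) : s i * s j * s i = s j * z := by
  rw [← h.conj_of_not (V.mem i) (V.mem j) (V.ac i j hij), inv_of_sq (V.sq i)]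

theorem PM.uniq {p : G} {i j : Fin 5} (h1 : PM z p (s i)) (h2 : PM z p (s j)) : i = j := by
  by_contra hij
  have zi := h.zc _ (V.mem i)
  have zj := h.zc _ (V.mem j)
  have c : Commute p (s j) := by rcases h2 with rfl | rfl; exacts [rfl, (Commute.refl _).mul_left zj.symm]
  rcases h1 with rfl | rfl
  exacts [V.ac i j hij c, not_comm_mul (V.ac i j hij) zj.symm c]

variable (h32 : Nat.card Q = 32)
include h32

theorem dec (p : Fm) (hp : p.dec 32 TQ.mu TQ.gc (fun _ => 0) = true) : p.sat Q (qlet s z) fun _ => 1 := by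
  have a : ∀ i j, i ≠ j → 1 * s i * s j * s i * s j * z = 1 := fun i j hij => by
    rw [one_mul, V.ac' h hij, mul_assoc (s j), ← (h.zc _ (V.mem j)).eq, ← mul_assoc, V.sq, one_mul, h.zz]
  have b : ∀ i, 1 * z * s i * z * s i = 1 := fun i => by
    rw [one_mul, ← (h.zc _ (V.mem i)).eq, mul_assoc (s i), h.zz, mul_one, V.sq]
  have c : ∀ i, 1 * s i * s i = 1 := fun i => by rw [one_mul, V.sq]
  have b' : ∀ i, 1 * s i * z * s i * z = 1 := fun i => by
    rw [one_mul, (h.zc _ (V.mem i)).eq, mul_assoc z, V.sq, mul_one, h.zz]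
  obtain ⟨f, R, C⟩ := TQ.exists_reg (g := qlet s z) (fun i hi => by obtain ⟨k, rfl⟩ := Nat.exists_eq_add_of_le' hi; rfl)
    (by
      simp only [JHJq.rels, List.forall_mem_cons]
      exact ⟨rfl, c 0, c 1, c 2, c 3, c 4, (congrArg (· * z) (one_mul z)).trans h.zz, a 0 1 (by decide), a 0 2 (by decide),
        a 0 3 (by decide), a 0 4 (by decide), a 1 2 (by decide), a 1 3 (by decide), a 1 4 (by decide),
        a 2 3 (by decide), a 2 4 (by decide), a 3 4 (by decide), b' 0, b' 1, b' 2, b' 3, b' 4,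
        (congrArg (· * s 1 * s 2 * s 3 * s 4) (one_mul (s 0))).trans V.prod, by simp⟩) (by rw [V.gen, h32])
  rw [V.gen] at R
  exact R.sound C p hp

theorem invol {q : G} (hq : q ∈ Q) (h2 : q * q = 1) (h1 : q ≠ 1) (hz : q ≠ z) : ∃ i, PM z q (s i) := by
  have := V.dec h h32 (.all ((u * u ≐ 1) ⟹ (u ≐ 1) ⋎ (u ≐ .g 5) ⋎ ((u ≐ .g 0) ⋎ (u ≐ .g 0 * .g 5)) ⋎
    ((u ≐ .g 1) ⋎ (u ≐ .g 1 * .g 5)) ⋎ ((u ≐ .g 2) ⋎ (u ≐ .g 2 * .g 5)) ⋎ ((u ≐ .g 3) ⋎ (u ≐ .g 3 * .g 5)) ⋎
    ((u ≐ .g 4) ⋎ (u ≐ .g 4 * .g 5)))) (by decide +kernel) q hq h2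
  rcases this with e | e | e | e | e | e | e
  exacts [absurd e h1, absurd e hz, ⟨0, e⟩, ⟨1, e⟩, ⟨2, e⟩, ⟨3, e⟩, ⟨4, e⟩]

theorem fix {i j k l m : ℕ} (hp : (fixF i j k l m).dec 32 TQ.mu TQ.gc (fun _ => 0) = true) {t : Fin 5 → G}
    (ht : ∀ n, PM z (t n) (s n)) {ρ : ℕ → G}
    (hρ : ρ = (scons (t 4) <| scons (t 3) <| scons (t 2) <| scons (t 1) <| scons (t 0) fun _ => 1))
    (e : ρ i * ρ j * ρ k * ρ l * ρ m = 1) : ∃ q ∈ Q, ∀ n, κ q (t n) = s n := by
  have m : ∀ n, t n ∈ Q := fun n => by rcases ht n with e | e <;> rw [e]; exacts [V.mem n, mul_mem (V.mem n) h.zQ]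
  subst hρ
  obtain ⟨q, hq, e0, e1, e2, e3, e4⟩ := V.dec h h32 _ hp _ (m 0) (ht 0) _ (m 1) (ht 1) _ (m 2) (ht 2) _ (m 3) (ht 3)
    _ (m 4) (ht 4) e
  refine ⟨q, hq, fun n => cj_eq.2 ?_⟩
  fin_cases n
  exacts [e0, e1, e2, e3, e4]

end Five

end Cfsg.Agent.HJ
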