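import Cfsg.Agent.HJ.Rho
import Cfsg.Agent.Spor.J.HJ2
import Cfsg.Agent.Spor.J.HJ3
import Cfsg.Agent.Spor.EqJ3
import Cfsg.Agent.Spor.Act5
import Cfsg.Agent.Ico.Eq

/-! Identification of the completions of the amalgam (helper24): `Amal.G0`, `Amal.j2` (`G0 ≃ J2` and `x` is not
conjugate to `z`), `Amal.j3` (`G0 ≃ J3` and `x` is conjugate to `z` in `G0`). -/

set_option autoImplicit false
set_option maxRecDepth 100000
set_option exponentiation.threshold 100000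

namespace Cfsg.Agent.HJ

open Cfsg.Agent.Comp Cfsg.Agent.Spor Subgroup

variable {G : Type*} [Group G]

theorem up0 {g : ℕ → G} (he : g 255 = 1) (hg : ∀ r ∈ JHJ0.rels, ev g r = 1) : CardLe (genL g (List.range 7)) 1920 :=
  cardLe_bot.of_relIndex (JHJ0.relIndex_le he hg fun _ h => nomatch h)

theorem subs7 (g : ℕ → G) : ∀ w ∈ [[0], [2], [3], [4], [5], [6]], ev g w ∈ genL g (List.range 7) := fun _ hw =>
  genW_le_genL (by decide) (mem_genW g hw)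

theorem up2 {g : ℕ → G} (he : g 255 = 1) (hg : ∀ r ∈ JHJ2.rels, ev g r = 1) :
    CardLe (genL g (List.range 9)) 604800 :=
  (up0 he (rels_of_sub hg (by decide +kernel))).of_relIndex (JHJ2.relIndex_le he hg (subs7 g))

theorem up3 {g : ℕ → G} (he : g 255 = 1) (hg : ∀ r ∈ JHJ3.rels, ev g r = 1) :
    CardLe (genL g (List.range 9)) 150698880 :=
  (up0 he (rels_of_sub hg (by decide +kernel))).of_relIndex (JHJ3.relIndex_le he hg (subs7 g))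

theorem le_genL_ren {g : ℕ → G} {defs bk : List (List ℕ)} {n m : ℕ} (h1 : chkLet (List.range m) bk = true)
    (h : ∀ w ∈ (List.range n).map fun i => i :: renW defs (getL bk [] i), ev g w = 1) :
    genL g (List.range n) ≤ genL (renG g defs) (List.range m) := genL_le fun i hi => by
  have := h _ (List.mem_map_of_mem hi)
  rw [ev_cons, ← ev_renG] at this
  rw [eq_inv_of_mul_eq_one_right this]
  exact inv_mem (genW_le_genL h1 (getL_mem_genW _ bk i))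

theorem hom_ev {A : Type*} [Group A] {u : ℕ → A} {g : ℕ → G} {ρ : A →* G} (h : ∀ i ∈ List.range 9, ρ (u i) = g i)
    {w : List ℕ} (hw : (w.all fun i => (List.range 9).contains i) = true) : ρ (ev u w) = ev g w := by
  rw [map_ev]
  exact ev_congr fun i hi => h i (List.contains_iff_mem.1 (List.all_eq_true.1 hw i hi))

/-- The letters in the model of `J2`. -/
def d2 : List (List ℕ) := [[6, 7, 3, 7, 1, 5, 7, 3, 6], [1, 1, 7, 0, 4, 3, 7, 0, 0], [1, 7, 1, 3, 6, 7, 3, 4, 3], [5, 2, 1, 7, 2, 6, 7, 1, 4], [0, 5, 6, 1, 4], [3, 4, 4, 2], [5, 3, 3, 7, 2, 2, 7, 4], [1, 7, 6, 0, 7, 0, 7, 4, 4, 3], [7, 1, 6, 3, 7, 2, 4, 2, 6, 5]]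

theorem chk2 {ws : List (List ℕ)} (h : andB (chkLet (List.range 8) ws) (chkId JJ2m2.nets 100 7 ws) = true) :
    ∀ w ∈ ws, ev MdJ2.g w = 1 :=
  MdJ2.rep.ev_eq_one MdJ2.inj ((andB_eq_true _ _).1 h).1 (ev_eq_one_of_chkId JJ2m2.ok (by decide) ((andB_eq_true _ _).1 h).2)

theorem top2 : genL (renG MdJ2.g d2) (List.range 9) = ⊤ := top_le_iff.1 (MdJ2.rep.top ▸
  le_genL_ren (bk := [[1, 2, 3, 2, 1, 6, 2, 4], [1, 2, 1, 3, 6, 2, 0, 6], [6, 4, 0, 2, 3, 1, 7, 3, 2, 8, 3, 2, 1], [0, 2, 3, 7, 2, 1, 3, 6, 7, 3, 2, 1, 6], [8, 6, 2, 3, 2, 7, 2, 3, 8, 3, 6, 7], [8, 3, 7, 3, 2, 6, 8, 3, 8, 2, 6, 2], [4, 6, 2, 8, 3, 7, 3, 7, 2, 6], [8, 1, 3, 7, 3, 8, 3, 7, 3]]) (by decide +kernel) (chk2 (by decide +kernel)))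

theorem hom2 {g : ℕ → G} (he : g 255 = 1) (hg : ∀ r ∈ JHJ2.rels, ev g r = 1) :
    ∃ ρ : MdJ2.G →* G, (∀ i ∈ List.range 9, ρ (renG MdJ2.g d2 i) = g i) ∧ ρ.range = genL g (List.range 9) :=
  exists_hom_of_up top2 MdJ2.card (up2 (prG_255 (renG_255 _ (by decide)) he)
    (prG_rels (renG_rels (chk2 (by decide +kernel))) hg))

/-- An element of order five centralising `x` and `a x a⁻¹`. -/
def fw : List ℕ := [3, 7, 3, 8, 3, 7, 3]

theorem fw2 : ∀ w ∈ [fw ++ fw ++ fw ++ fw ++ fw, [3, 8, 3, 7, 3, 8, 3] ++ [2] ++ fw ++ [2], [3, 8, 3, 7, 3, 8, 3] ++ [1, 2, 0] ++ fw ++ [1, 2, 0]],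
    ev (renG MdJ2.g d2) w = 1 := renG_rels (chk2 (by decide +kernel))

theorem fw2' : ev (renG MdJ2.g d2) fw ≠ 1 := by
  rw [ev_renG]; exact MdJ2.rep.ne_one (p := 0) (q := 83) (by decide +kernel) (by decide +kernel) (by decide)

/-- The letters in `3.J3`. -/
def d3 : List (List ℕ) := [[3, 2, 1, 3, 2, 3, 1, 0, 2, 0, 3, 1, 0], [0, 1, 3, 0, 2, 0, 1, 3, 2, 3, 1, 2, 3], [2, 0, 1, 2, 0, 3, 2, 0, 2, 3, 0, 2, 1, 0, 2], [0, 1, 0, 3, 2, 1, 3, 1, 0, 2, 3, 0, 3, 2, 3, 0, 4], [3, 1, 0, 3, 1, 2, 3, 2, 3, 2, 1, 3, 0, 1, 3], [1, 2, 1, 3, 0, 3, 1, 2, 1, 2, 3, 0, 3, 1, 2, 1], [3, 0, 2, 0, 1, 2, 0, 1, 0, 2, 0, 2, 1, 2, 0, 2, 3], [2, 1, 2, 0, 1, 2, 0, 1, 3, 1, 2, 3, 0, 3, 1], [1, 3, 0, 3, 2, 1, 3, 1, 0, 2, 1, 0, 2, 1, 2]]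

theorem chk3 {ws : List (List ℕ)} (h : andB (chkLet (List.range 48) ws) (chkIdM 5 31 2 (9 * 2) EqJ3.As ws) = true) :
    ∀ w ∈ ws, ev EqJ3.b w = 1 := EqJ3.m2.ev_eq_one ((andB_eq_true _ _).1 h).1 ((andB_eq_true _ _).1 h).2

/-- The group `3.J3`. -/
abbrev U3 : Subgroup (GL Cfsg.Spor.F9 F4) := Cfsg.Spor.threeJ3 F4 F4.ω

/-- The letters in `3.J3`. -/
noncomputable def u3 (i : ℕ) : U3 :=
  ⟨renG EqJ3.b d3 i, by rw [U3, EqJ3.three_eq]; exact genW_le_genL (by decide +kernel) (getL_mem_genW _ d3 i)⟩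

theorem ev_u3 {ws : List (List ℕ)} (h : ∀ w ∈ ws, ev (renG EqJ3.b d3) w = 1) : ∀ w ∈ ws, ev u3 w = 1 :=
  fun w hw => Subtype.ext ((map_ev U3.subtype u3 w).trans (h w hw))

theorem top3 : genL u3 (List.range 9) = ⊤ := by
  refine top_le_iff.1 ((map_le_map_iff_of_injective U3.subtype_injective).1 ?_)
  rw [map_genL', ← MonoidHom.range_eq_map, range_subtype]
  refine EqJ3.three_eq.le.trans ?_
  exact le_genL_ren (bk := [[3, 8, 3, 8, 3, 2, 7, 3, 5, 8, 3, 8, 2, 3, 6, 7, 3, 7, 3], [6, 2, 3, 7, 5, 3, 2, 7, 3, 8, 3, 8, 2, 3, 8, 3, 2, 6], [0, 2, 3, 8, 3, 2, 8, 6, 2, 3, 7, 2, 3, 8, 3, 2, 7, 3, 2, 0, 0, 2, 3, 7, 3, 8, 0, 2, 3, 7, 3, 8, 0, 2, 3, 7, 3, 8, 0, 2, 3, 7, 3, 8, 0, 2, 3, 7, 3, 8, 0, 2, 3, 7, 3, 8, 0, 2, 3, 7, 3, 8, 0, 2, 3, 7, 3, 8], [2, 3, 7, 3, 8, 3, 2, 7, 3, 5, 8, 2, 3, 7, 3, 8, 3, 2], [0, 2, 3, 7, 3, 8, 0, 2, 3, 7, 3, 8, 0, 2, 3, 7, 3, 8, 0, 2, 3, 7, 3, 8, 0, 2, 3,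 7, 3, 8, 0, 2, 3, 7, 3, 8, 0, 2, 3, 7, 3, 8, 0, 2, 3, 7, 3, 8]]) (by decide +kernel) (chk3 (by decide +kernel))

theorem simple3 : IsSimpleGroup (Cfsg.Spor.J3 F4 F4.ω) ∧ Nat.card (Cfsg.Spor.J3 F4 F4.ω) = 50232960 :=
  simple_card_congr ⟨MdJ3.simple, MdJ3.card⟩ EqJ3.cover.2.some

theorem hom3 {g : ℕ → G} (he : g 255 = 1) (hg : ∀ r ∈ JHJ3.rels, ev g r = 1) :
    ∃ ρ : U3 →* G, (∀ i ∈ List.range 9, ρ (u3 i) = g i) ∧ ρ.range = genL g (List.range 9) :=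
  exists_hom_of_up top3 (card_of_center EqJ3.cover.1 simple3.2)
    (up3 (prG_255 (Subtype.ext (renG_255 _ (by decide))) he) (prG_rels (ev_u3 (renG_rels (chk3 (by decide +kernel)))) hg))

/-- An element conjugating `z` to `x`. -/
def cw3 : List ℕ := [7, 3, 7, 2, 3, 2, 8, 3, 7, 3, 8, 2, 3, 2, 8, 3]

theorem cj3 : ∀ w ∈ [[3, 7, 2, 3, 2, 7, 3, 8, 3, 7, 2, 3, 2, 8, 3, 8] ++ cw3, [2] ++ [3, 7, 2, 3, 2, 7, 3, 8, 3, 7, 2, 3, 2, 8, 3, 8] ++ [5] ++ cw3], ev u3 w = 1 :=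
  ev_u3 (renG_rels (chk3 (by decide +kernel)))

theorem inj_of_simple {A : Type*} [Group A] [IsSimpleGroup A] (ρ : A →* G) {u : A} (h : ρ u ≠ 1) :
    Function.Injective ρ :=
  (MonoidHom.ker_eq_bot_iff ρ).1 ((ρ.normal_ker.eq_bot_or_eq_top).resolve_right fun e => h (by
    rw [← MonoidHom.mem_ker, e]; trivial))

theorem Loc.five [Finite G] {a x e s z t : G} (L : Loc a x e s z t) {f : G} (h5 : f * f * f * f * f = 1) (h1 : f ≠ 1)
    (hx : f * x = x * f) (hy : f * (a * x * a⁻¹) = a * x * a⁻¹ * f) : ¬ IsConj z x := fun hc => by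
  obtain ⟨g, hg⟩ := isConj_iff.1 hc.symm
  change κ g x = z at hg
  have m : κ g f ∈ centralizer {z} := memC.2 (by rw [← hg]; exact cj_comm.2 hx)
  have p : ∀ k : G, κ k f * κ k f * κ k f * κ k f * κ k f = 1 := fun k => by simp only [← map_mul, h5, map_one]
  have q : ∀ k ∈ centralizer {z}, ∀ u, k * u = κ g (a * x * a⁻¹) * k →
      κ (k⁻¹ * g) f ∈ centralizer {z} ∧ κ (k⁻¹ * g) f * u = u * κ (k⁻¹ * g) f := fun k hk u hu => by
    refine ⟨by rw [cj_mul]; exact mul_mem (mul_mem (inv_mem hk) m) (inv_mem (inv_mem hk)), ?_⟩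
    rw [← cj_inv (cj_eq.2 hu), ← cj_mul]; exact cj_comm.2 hy
  rcases L.cl (κ g (a * x * a⁻¹)) (memC.2 (by rw [← hg]; exact cj_comm.2 L.eqs.2.2.2.2.2.2.symm))
    (by rw [← map_mul, conj_mul, L.xx]; simp) with h | h | ⟨k, hk, h⟩ | ⟨k, hk, h⟩
  · exact L.nes.2.2.1.1 (cj_one.1 h)
  · exact L.nes.2.2.1.2 (cj_inj.1 (h.trans hg.symm))
  · have := (L.cx _ (q k hk x h).1 (q k hk x h).2).1.1
    have h' := p (k⁻¹ * g)
    rw [this, one_mul, this, one_mul] at h'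
    exact h1 (cj_one.1 h')
  · exact h1 (cj_one.1 ((L.cs _ (q k hk s h).1 (q k hk s h).2).2.2.1 (p _)))

namespace Amal

variable [Finite G] {a x e s z t r : G} (M : Amal a x e s z t r)
include M

theorem le_G0 : centralizer {z} ≤ genL (let9 a x e s z t r) (List.range 9) := by
  rw [← M.cen]
  exact genL_le fun i hi => let9_lt a x e s z t r i (List.mem_range.1 hi) ▸
    mem_genL _ (List.mem_range.2 ((List.mem_range.1 hi).trans (by decide)))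

theorem rel10 (h : (r * e) ^ 10 = 1) : ∀ w ∈ [3, 7, 3, 7, 3, 7, 3, 7, 3, 7, 3, 7, 3, 7, 3, 7, 3, 7, 3, 7] :: baseRels,
    ev (let9 a x e s z t r) w = 1 := M.base' (by
  change 1 * r * e * r * e * r * e * r * e * r * e * r * e * r * e * r * e * r * e * r * e = 1
  simpa only [pow_succ, pow_zero, mul_assoc] using h)

theorem j2 (h : (r * e) ^ 10 = 1) (h' : (r * e * r⁻¹ * e) ^ 4 = a) :
    Nonempty (genL (let9 a x e s z t r) (List.range 9) ≃* Cfsg.Spor.J2) ∧ ¬ IsConj z x := by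
  have k : ev (let9 a x e s z t r) [1, 3, 8, 3, 7, 3, 8, 3, 7, 3, 8, 3, 7, 3, 8, 3, 7] = 1 := by
    change 1 * r * e * r⁻¹ * e * r * e * r⁻¹ * e * r * e * r⁻¹ * e * r * e * r⁻¹ * e * a⁻¹ = 1
    rw [mul_inv_eq_one]
    simpa only [pow_succ, pow_zero, mul_assoc] using h'
  obtain ⟨ρ, h1, h2⟩ := hom2 (let9_ge a x e s z t r 255 (by decide))
    (rels_of_sub (List.forall_mem_cons.2 ⟨k, M.rel10 h⟩) (by decide +kernel))
  have := MdJ2.simple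
  have hi := inj_of_simple ρ (u := renG MdJ2.g d2 5) (by rw [h1 5 (by decide)]; exact M.z1)
  refine ⟨⟨((MulEquiv.subgroupCongr h2).symm.trans (MonoidHom.ofInjective hi).symm).trans Ico.equiv.some⟩, ?_⟩
  have f := fw2
  simp only [List.forall_mem_cons] at f
  obtain ⟨f1, f2, f3, -⟩ := f
  replace f1 := (hom_ev h1 (by decide)).symm.trans ((congrArg ρ f1).trans ρ.map_one)
  replace f2 := (hom_ev h1 (by decide)).symm.trans ((congrArg ρ f2).trans ρ.map_one)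
  replace f3 := (hom_ev h1 (by decide)).symm.trans ((congrArg ρ f3).trans ρ.map_one)
  have e1 : ev (let9 a x e s z t r) [3, 8, 3, 7, 3, 8, 3] = (ev (let9 a x e s z t r) fw)⁻¹ := by
    change 1 * e * r⁻¹ * e * r * e * r⁻¹ * e = (1 * e * r * e * r⁻¹ * e * r * e)⁻¹
    simp [inv_of_sq M.ee, mul_assoc]
  simp only [ev_append, e1] at f1 f2 f3
  refine M.five (f := ev (let9 a x e s z t r) fw) (by simpa only [mul_assoc] using f1)
    (fun h => fw2' (hi ((hom_ev h1 (by decide)).trans (h.trans ρ.map_one.symm)))) ?_ ?_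
  · change 1 * x * (_ * (1 * x * _)) = 1 at f2
    exact cj_eq.1 ((eq_inv_of_mul_eq_one_right (by simpa [mul_assoc] using f2)).trans (inv_of_sq M.xx))
  · change 1 * a * x * a⁻¹ * (_ * (1 * a * x * a⁻¹ * _)) = 1 at f3
    have : (a * x * a⁻¹)⁻¹ = a * x * a⁻¹ := inv_of_sq (by rw [conj_mul, M.xx]; simp)
    exact cj_eq.1 ((eq_inv_of_mul_eq_one_right (by simpa [mul_assoc] using f3)).trans this)

theorem j3 (h : (r * e) ^ 10 = 1) (h' : (r * e * r⁻¹ * e) ^ 4 = 1) :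
    Nonempty (genL (let9 a x e s z t r) (List.range 9) ≃* Cfsg.Spor.J3 F4 F4.ω) ∧
      ∃ k ∈ genL (let9 a x e s z t r) (List.range 9), κ k z = x := by
  have k : ev (let9 a x e s z t r) [3, 8, 3, 7, 3, 8, 3, 7, 3, 8, 3, 7, 3, 8, 3, 7] = 1 := by
    change 1 * r * e * r⁻¹ * e * r * e * r⁻¹ * e * r * e * r⁻¹ * e * r * e * r⁻¹ * e = 1
    simpa only [pow_succ, pow_zero, mul_assoc] using h'
  obtain ⟨ρ, h1, h2⟩ := hom3 (let9_ge a x e s z t r 255 (by decide))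
    (rels_of_sub (List.forall_mem_cons.2 ⟨k, M.rel10 h⟩) (by decide +kernel))
  have hZ : center U3 ≤ ρ.ker := fun c hc => by
    have c1 : ∀ i ∈ List.range 9, ρ c * let9 a x e s z t r i = let9 a x e s z t r i * ρ c := fun i hi => by
      rw [← h1 i hi, ← map_mul, ← map_mul, mem_center_iff.1 hc]
    have c2 := (M.ctr _ (memC.2 (c1 5 (by decide)))).1 (c1 0 (by decide)) (c1 4 (by decide)) (c1 3 (by decide))
    have c3 : c ^ 3 = 1 := by
      have := pow_card_eq_one' (x := (⟨c, hc⟩ : center U3))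
      rw [EqJ3.cover.1] at this
      exact congrArg Subtype.val this
    have c4 := congrArg ρ c3
    rwa [map_pow, pow_three', c2, one_mul, map_one] at c4
  have := simple3.1
  have hi := inj_of_simple (QuotientGroup.lift (center U3) ρ hZ) (u := (u3 5 : Cfsg.Spor.J3 F4 F4.ω))
    (by rw [QuotientGroup.lift_mk, h1 5 (by decide)]; exact M.z1)
  have h3 : (QuotientGroup.lift (center U3) ρ hZ).range = ρ.range := by
    ext y; exact ⟨fun ⟨c, hc⟩ => by obtain ⟨c, rfl⟩ := QuotientGroup.mk_surjective c; exact ⟨c, hc⟩,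
      fun ⟨c, hc⟩ => ⟨c, hc⟩⟩
  refine ⟨⟨(MulEquiv.subgroupCongr (h3.trans h2)).symm.trans (MonoidHom.ofInjective hi).symm⟩,
    ev (let9 a x e s z t r) cw3, genW_le_genL (ws := [cw3]) (by decide) (mem_genW _ List.mem_cons_self), ?_⟩
  have f := cj3
  simp only [List.forall_mem_cons] at f
  obtain ⟨f1, f2, -⟩ := f
  replace f1 := (hom_ev h1 (by decide)).symm.trans ((congrArg ρ f1).trans ρ.map_one)
  replace f2 := (hom_ev h1 (by decide)).symm.trans ((congrArg ρ f2).trans ρ.map_one)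
  rw [ev_append] at f1
  rw [ev_append, ev_append, ev_append, ← inv_eq_of_mul_eq_one_right f1] at f2
  change _ * (1 * z * (_ * (1 * x))) = 1 at f2
  exact (eq_inv_of_mul_eq_one_left (by simpa [mul_assoc] using f2)).trans (inv_of_sq M.xx)

end Amal

end Cfsg.Agent.HJ
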