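import Cfsg.Agent.HJ.J3t
import Cfsg.Agent.Known.J3Tab
import Cfsg.Agent.Comp.Loc
import Cfsg.Agent.Classical.Triangle

/-! The involutions of J3 (helper26): `J3c.conj` (one class), `J3c.cent` (centraliser `2^{1+4}:A₅`), for every
group with the computational model `J3T.act`. -/

set_option autoImplicit false
set_option maxRecDepth 100000
set_option exponentiation.threshold 100000

namespace Cfsg.Agent.HJ.J3c

open Cfsg.Agent.Comp Cfsg.Agent.Known Cfsg.Agent.Known.J3T Subgroup Equiv
open scoped Pointwise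

/-- the table of a word. -/
noncomputable def tw (w : List ℕ) : ℕ := tabW Spor.JJ3m2.nets 6156 13 13 w

theorem W_eq {w : List ℕ} (hw : ∀ x ∈ w, x < 4) : W y w = (Spor.ev Spor.MdJ3.g w)⁻¹ := by
  induction w with
  | nil => simp [W]
  | cons a w ih =>
    have : y a = (Spor.MdJ3.g a)⁻¹ := by
      have := hw a List.mem_cons_self
      interval_cases a <;> simp [y, wds, nthL_eq]
    rw [W_cons, ih fun x hx => hw x (List.mem_cons_of_mem _ hx), this]; simp

theorem par : Par 6156 13 8191 := ⟨by decide, by decide⟩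

/-- the base. -/
abbrev B : List ℕ := [1, 256, 1565, 4678, 0]

variable {Γ : Type*} [Group Γ] {φ : Γ →* Perm ℕ} {x : ℕ → Γ} (M : Mdl φ 6156 4 50232960 x act B)
include M

theorem rep {w : List ℕ} (hw : allL w (fun a => Nat.blt a 4) = true) : letI := M.mact
    PRep (encFin 6155) 13 8191 (tw w) (W x w) := fun i => by
  have h : ∀ a ∈ w, a < 4 := fun a ha => nblt.1 (allL_iff.1 hw a ha)
  refine ((get_tabW Spor.JJ3m2.ok (by decide) le_rfl (by decide) rfl w i.2).trans ?_).trans (M.fnW w i)
  rw [← Spor.MdJ3.rep.map_ev h, ← map_inv, ← W_eq h]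
  exact mdl.applyW w i.2

theorem memC {w : List ℕ} (h : eqB act B (appendL w [0]) (0 :: w) = true) : W x w ∈ centralizer {x 0} := by
  have := M.eq h
  rw [appendL_eq, W_append, W_cons, W_cons, W_nil, mul_one] at this
  exact mem_centralizer_singleton_iff.2 this

theorem codes (ws : List (List ℕ)) (h : allL ws (fun w => band (allL w fun a => Nat.blt a 4)
    (eqB act B (appendL w [0]) (0 :: w))) = true) : letI := M.mact
    CodesIn (PRep (encFin 6155) 13 8191) (mapL tw ws) (centralizer {x 0}) := fun c hc => by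
  rw [mapL_eq] at hc
  obtain ⟨w, hw, rfl⟩ := List.mem_map.1 hc
  have := allL_iff.1 h w hw
  rw [band_eq, Bool.and_eq_true] at this
  exact ⟨_, memC M this.2, rep M this.1⟩

theorem ne {u v : List ℕ} (h : eqB act B u v = false) : W x u ≠ W x v := fun e => by
  rw [Bool.eq_false_iff] at h
  refine h (allL_iff.2 fun b hb => nbeq.2 ?_)
  have : b < 6156 := by revert b; decide
  rw [← M.applyW u this, ← M.applyW v this, e]

theorem ord : orderOf (x 0) = 2 := orderOf_eq_prime (by simpa [W, sq] using M.eq (u := [0, 0]) (v := []) (by decide +kernel))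
  (by simpa [W] using ne M (u := [0]) (v := []) (by decide +kernel))

/-- elements of orders three and five. -/
def wa : List ℕ := [3, 1, 2, 0, 1, 2, 1, 0, 2, 3, 2, 0, 1, 0]
/-- elements of orders three and five. -/
def wb : List ℕ := [2, 3, 1, 0, 2, 1, 3, 0, 2]

/-- the class tree. -/
def D : ℕ := nat_lit 0x62000248a0508c800477783329a000508a002fa7132e5f0332650011e640028a000b53b800a4440053122766ef07898f00009344cb9980014bf0002a5010fc7c0024860ea4b7001b75801ed0ce9eaf20175db003d9b000be8c0048a4008ad6003ca2800db4400293600049c06915789a481819fd7804e1910230620003f8402d4b0008f2500010a03326600359a2006d050014c080036c4000a4600021500b52e832f8e8000dba008f3100030b806b5c400f91000793e01ea9e1d8d3544df86c0460cc43f0a901153a000012200017c065eb0806b31400f41a0028ae003c68800a60800036a0000c300b8d2000910c001ad400007f003665800a1a4e62cce016db300142104564885a72b80012410006ea805b6bc028cc800061913b378800185400093604491100a3899ca9818005f48003e4000d6cb81186504c756c04491c078c840001020000300043f40003c638003db0197ac00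454f0003ca180018ec02db5a000d8e021fb3014198800f3c6016a5f137e3e80035e000016200793d0047920001238006da60d224f078d2d006b32402d7780000c2000372800910400258201a08400b53b000e0bc00182a016a5702842ba1eb0600048ac0079e4137e1b8112424007064016e2b00367c805aef808aac2016bbb01e998005c68c19fdbe0012bf0006eb82dfed800049605065f001b75000a284000c7a0012b90017db00018fc0002fc0028430007f00348946b2867200a47b0006bb800e114000a98044a8300004a8141978001b5e73b6153955f88000818088668043f6800b8d3000101800049200047d16a58d0004b2c000a44008eed000a58801e79c4c729e0006df065f1e001f27400f9140000310014359d3d2a4087e1800003a00003f000055ce62c7c044377000020002931003410a04433c000a5f01183141e31ea01759400a377800db30088664016a6a00bacb0001ba40b90c00078c900030b000061000f90c0171ca0000150000208001fcc0460e4001c108004ae819fda6002fa500142089972fc08866005084f000056000055819b6ad5b224300bacc005c68800005200124d068012801e314005f74016e29021f9fd8a7a0c006d8e01759c00001c001e794001fd001ed7400023e000070800706001acca028428832f47002d4d2007b3500b5e8811246c02db560cbdc4af7037800190c4c6eac0078cd021f84000123c005c8c000d8a005433800003402ebb40508c700000781153d000f684000c1c000009000020000040e000071132f9d005d680000386003e1702306b800005000005e000478131ca70023bac4c6eae007c87000012800a45400000800000600000280035ac000006000001000241000306800249200000b00000000291a0000908016bba00010980002c000256a01ad6f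

/-- five blocks. -/
def V : ℕ := nat_lit 0xb53d8ae57b28a899422567aaaf30e9624a4a3debf6d8b6418fcf74db67979c7242e292b89483ebbc0589aba7416978c82d94cc354cf1e849ba15bbbbdd9253d2758f6c551772a31497a384456201b10d3c28511c57b9b265926bb22ce10b4622000

theorem cent' : Nat.card (centralizer {x 0}) = 1920 ∧ ∃ π : centralizer {x 0} →* alternatingGroup (Fin 5),
    Function.Surjective π ∧ Nat.card π.ker = 32 ∧ IsExtraspecial 2 π.ker := by
  let := M.mact
  have := M.faithful
  have := M.finite
  have h0 : ∀ ws : List (List ℕ), allL ws (fun w => allL w fun a => Nat.blt a 4) = true →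
      CodesIn (PRep (encFin 6155) 13 8191) (mapL tw ws) (⊤ : Subgroup Γ) := fun ws h c hc => by
    rw [mapL_eq] at hc
    obtain ⟨w, hw, rfl⟩ := List.mem_map.1 hc
    exact ⟨_, trivial, rep M (allL_iff.1 h w hw)⟩
  have h2 : PRep (encFin 6155) 13 8191 (tw [0]) (x 0) := by simpa [W] using rep M (w := [0]) (by decide)
  have h3 := codes M [wa, wb, [2, 0, 1, 3, 2, 1, 0, 3, 0, 3, 1]] (by decide +kernel)
  have h4 := card_cent_le_tree par (h0 [[0], [1], [2], [3]] (by decide)) (h0 [[], [3, 1, 2, 3, 2, 0, 3, 0, 3]] (by decide))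
    (h0 [[0], [1], [2]] (by decide)) h2 (card_top.trans M.card) (b := 0) (sub_labS _ _) (N := 1920) [2, 1] 16 323
    (get 25 (2 ^ 25 - 1) D) (by decide +kernel)
  rw [top_inf_eq] at h4
  obtain ⟨h5, h6⟩ := card_closure_of_le par h3 [1500, 0] [] h4 (by decide +kernel)
  obtain ⟨π, h7⟩ := exists_surj_alt _ (fun _ _ _ h h' => h.unique h') h3 h6 [17986, 1305, 16586]
    [[0], [1], [0, 1], [2, 0, 1, 1]] [0, 1, 2] (n := 3) (w := 3) (m := 7) ⟨by decide, by decide⟩ (vs := get 156 (2 ^ 156 - 1) V)
    (sets_P (k := 12) (v := 13) (u := 8191) rfl par.le (by decide +kernel))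
    (inj_of_nodupL (by apply of_eq_true; simp only [keyedPt, Keyed.sets]; exact eq_true (by decide +kernel)))
    (k := 15) (by decide)
    (by apply of_eq_true; simp only [keyedPt, Keyed.sets, tabsOK]; exact eq_true (by decide +kernel))
  have h8 := ES_ker _ h7 (codes M [[2, 3, 1, 2, 0, 2, 0, 1, 3, 2], [2, 0, 2, 1, 0, 2, 1, 2, 0, 1],
    [2, 3, 1, 0, 3, 2, 1, 2, 1, 3, 2, 1, 3, 2], [2, 1, 0, 2, 0, 1, 2, 0, 1, 0, 2, 0, 1, 0, 2]] (by decide +kernel))
    (z := J3t.tt (x 0)) h2 M.baseF h5 Classical.card_alt5 (k := 4)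
    (by apply of_eq_true; simp only [keyedPt, Keyed.sets, fixOK]; exact eq_true (by decide +kernel))
  exact ⟨h5, π, h7.1, h8.1, h8.2.1⟩

/-- polycyclic generators of a Sylow 2-subgroup, and the generators of the group. -/
def xs : List (List ℕ) := [[2, 0, 2], [2, 1, 0, 2, 1, 2, 0, 1, 2], [2, 3, 1, 2, 0, 2, 0, 1, 3, 2], [2, 0, 2, 1, 0, 2, 1, 2, 0, 1],
  [2, 3, 1, 0, 3, 2, 1, 2, 1, 3, 2, 1, 3, 2], [2, 1, 0, 2, 0, 1, 2, 0, 1, 0, 2, 0, 1, 0, 2], [0], [0], [1], [2], [3]]

/-- the relations. -/
def PD : PcData := ⟨1, 7, [[], [], [], [], [6], [6], []], [[], [[1]], [[2, 3, 4, 6], [2, 3, 4, 5, 6]], [[3], [3], [3, 6]],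
  [[4, 6], [3, 4], [4], [4]], [[3, 5], [3, 5, 6], [5], [5], [5, 6]], [[6], [6], [6], [6], [6], [6]]], []⟩

/-- conjugating words. -/
def cs : List (List ℕ) := [[], [9], [9,8,7,9,7,8], [10,9,7,10,8,10,8,9,10,8], [8,10,9,7,8,10,9,10,9,8], [], [], [],
  [8,9,10,7,8,10,9,7,10,7,8], [8,7,9,7,8], [10,9,8,7,10,9,10,7,10,7,8], [8,10,9,10,7,10,9,7,8,10,8], [], [], [], [],
  [], [9,10,8,7,10,9,8,10,7,8], [], [], [], [], [], [], [], [9,10,8,9,7,9,7,8,10], [], [],
  [10,7,8,10,8,9,8,10,9,8,9], [], [], [], [], [], [], [10,9,7,10,8,9,10,9,7,8,9], [], [], [], [], [], [], [],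
  [8,7,10,9,8,10,9,10,9,8,9], [10,7,9,7,10,9,8,7,10,8,9,8], [], [], [], [], [], [9,7,9,8,10,9,7,8,9,10], [], [], [],
  [], [], [], [], [8,10,7,8,10,8,10,9,8,10], [], [10,9,10,7,9,10,7,10,7,9,10], [], [], [], [],
  [10,7,8,10,7,8,7,10,9,8,7,10], [8,9,10,8,9,8,10,8,7,10], [9,10,9,10,7,10,9,10], [10,7,9,7,8,10,7,8,9,8], [], [],
  [], [10,9,10,7,10,9,10], [9,10,9,7,10,8,10,8,9,10,8], [8,7,9,7,8,9], [10,7,10,9,8,7,9,7,8,9,10], [], [], [], [],
  [], [9,10,8,9,10,8,9,10,7,8], [], [], [], [], [], [], [], [9,7,10,8,9,7,9,7,8,10], [], [],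
  [10,7,9,10,7,9,10,8,10,9], [], [], [], [], [], [], [10,9,10,7,10,9,10,9], [], [], [], [], [], [], [],
  [8,7,10,9,8,9,7,9,8], [8,9,8,7,10,8,7,9,7,10], [], [], [], [], [], [10,7,9,7,8,9,10,8,10], [], [], [], [], [], [],
  [], [8,10,9,7,8,9,10], [], [10,7,9,8,9,10,7,9,10,7,8], [], [], []]

/-- the normal words. -/
def nw (v : ℕ) : List ℕ := filterL (tb v) (List.range 7)

theorem conj {g : Γ} (hg : orderOf g = 2) : IsConj (x 0) g := by
  let := actOf φ
  have := M.finite
  have hA := M.hy.words xs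
  set z := fun i => W x (nthL [] xs i)
  set a := fun i => actW act (nthL [] xs i)
  have he : ∀ u v, eqB a B u v = true → W z u = W z v := fun u v =>
    eq_of_eqB (fun _ _ _ h h' => h.1.symm.trans h'.1) hA M.base
  have hR := PD.rel_of_eq he (allLt_iff.1 (by decide +kernel)) rfl
  have h1 := (PD.card_closure_le (by decide +kernel) hR.pow hR.conj).2
  set P := closure (z '' {i | i < PD.n})
  let f : Fin 128 → P := fun v => ⟨W z (nw v), W_mem _ fun a ha => subset_closure ⟨a, by
    rw [nw, filterL_eq] at ha; exact List.mem_range.1 (List.mem_of_mem_filter ha), rfl⟩⟩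
  have h2 : ∀ w, ∀ b < 6156, φ (W z w) b = actW a w b := fun w b hb => (actW_spec hA w (a := b) ⟨rfl, hb⟩).1.symm
  have hf : Function.Injective f := fun u v e => Fin.ext (List.inj_on_of_nodup_map (nodupL_iff.1 (show nodupL
    ((List.range 128).map fun v => actW a (nw v) 1) = true by decide +kernel)) (List.mem_range.2 u.2) (List.mem_range.2 v.2)
    (by rw [← h2 _ _ (by decide), ← h2 _ _ (by decide)]; exact congrArg (fun p : P => φ p 1) e))
  have h3 : Nat.card P = 2 ^ 7 := h1.antisymm ((Nat.card_fin 128).symm.trans_le (Nat.card_le_card_of_injective f hf))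
  have hg2 : g ^ 2 = 1 := hg ▸ pow_orderOf_eq_one g
  obtain ⟨k, -, hk⟩ := exists_conj_mem_sylow (j := 1) Nat.prime_two le_top h3 (card_top.trans M.card) (by decide) (mem_top g) hg2
  obtain ⟨v, hv⟩ := (hf.bijective_of_nat_card_le (by simp [h3])).2 ⟨_, hk⟩
  have hv : W z (nw v) = k * g * k⁻¹ := congrArg Subtype.val hv
  have h4 := allLt_iff.1 (show allLt 128 (fun v => bor (bor (Nat.beq v 0) (not (eqB a B (appendL (nw v) (nw v)) [])))
    (eqB a B (appendL (nthL [] cs v) [7]) (appendL (nw v) (nthL [] cs v)))) = true by decide +kernel) v v.2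
  simp only [bor_eq, Bool.or_eq_true, nbeq, Bool.not_eq_true', appendL_eq] at h4
  rcases h4 with (e | e) | e
  · rw [e] at hv
    rw [show g = 1 by simpa using hv.symm.trans (W_nil z), orderOf_one] at hg
    omega
  · refine absurd (allL_iff.2 fun b hb => nbeq.2 ?_) (Bool.eq_false_iff.1 e)
    have : b < 6156 := by revert b; decide
    rw [← h2 _ _ this, ← h2 _ _ this, W_append, hv, conj_mul, ← sq, hg2, W_nil]; simp
  · have := he _ _ e
    rw [W_append, W_append, hv] at this
    refine (isConj_iff.2 ⟨W z (nthL [] cs v), mul_inv_eq_iff_eq_mul.2 ?_⟩).trans (isConj_iff.2 ⟨k, rfl⟩).symm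
    simpa [z, W, xs, nthL_eq] using this

theorem one {g h : Γ} (hg : orderOf g = 2) (hh : orderOf h = 2) : IsConj g h := (conj M hg).symm.trans (conj M hh)

theorem cent : Nat.card (centralizer {x 0}) = 1920 ∧ ∃ π : centralizer {x 0} →* alternatingGroup (Fin 5),
    Function.Surjective π ∧ Nat.card π.ker = 32 ∧ IsExtraspecial 2 π.ker ∧ ∃ A, π.ker.IsComplement' A := by
  have := M.finite
  obtain ⟨h1, π, h2, h3, h4⟩ := cent' M
  refine ⟨h1, π, h2, h3, h4, ?_⟩
  let a : centralizer {x 0} := ⟨_, memC M (w := wa) (by decide +kernel)⟩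
  let b : centralizer {x 0} := ⟨_, memC M (w := wb) (by decide +kernel)⟩
  obtain ⟨e⟩ := Classical.Tri.equiv_alt5 (x := a) (y := b) ⟨Subtype.ext (by
      simpa [W_append, pow_succ, mul_assoc] using M.eq (u := wa ++ wa ++ wa) (v := []) (by decide +kernel)), Subtype.ext (by
      simpa [W_append, pow_succ, mul_assoc] using M.eq (u := wb ++ wb ++ wb ++ wb ++ wb) (v := []) (by decide +kernel)), Subtype.ext (by
      simpa [W_append, pow_succ, mul_assoc] using M.eq (u := wa ++ wb ++ wa ++ wb) (v := []) (by decide +kernel))⟩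
    fun e => ne M (u := wa ++ wb) (v := []) (by decide +kernel) (by rw [W_append, W_nil]; exact congrArg Subtype.val e)
  have h5 := (Nat.card_congr e.toEquiv).trans Classical.card_alt5
  have := e.isSimpleGroup
  refine ⟨closure {a, b}, isComplement'_of_card_mul_and_disjoint (by rw [h3, h5, h1]) ?_⟩
  rcases (inferInstance : (π.ker.subgroupOf (closure {a, b})).Normal).eq_bot_or_eq_top with h | h
  · exact subgroupOf_eq_bot.1 h
  · have := card_le_of_le (subgroupOf_eq_top.1 h)
    omega

end Cfsg.Agent.HJ.J3c
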