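import Cfsg.Agent.HJ.J3t

/-! The 2-fusion system of a group of J3-type is simple (helper26): `J3t.simple`. -/

set_option autoImplicit false

namespace Cfsg.Agent.HJ.J3t

open Subgroup Cfsg.Agent.PGrp Cfsg.Agent.Loc Cfsg.Agent.Fus

variable {G : Type*} [Group G] [Finite G] {t : G} {π : centralizer ({t} : Set G) →* alternatingGroup (Fin 5)}

theorem simple (ht : orderOf t = 2) (hπ : Function.Surjective π) (hE : IsExtraspecial 2 π.ker)
    (h32 : Nat.card π.ker = 32) (hone : ∀ x y : G, orderOf x = 2 → orderOf y = 2 → IsConj x y)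
    {A : Subgroup (centralizer ({t} : Set G))} (hA : π.ker.IsComplement' A) (P : Sylow 2 G) :
    (groupFusionSystem (P : Subgroup G)).IsSimple 2 := by
  have hC := cent_le ht hπ hE h32 hone
  obtain ⟨hk, h1, h2⟩ := isES hπ hE h32 (tt_ord ht) (tt_center t)
  have hp : IsPGroup 2 π.ker := .of_card (n := 5) h32
  obtain ⟨S, hS⟩ := exists_sylIn 2 (centralizer ({t} : Set G))
  have hQ : π.ker ≤ S.subgroupOf _ :=
    hS.subgroupOf_top.le_of_le_normalizer le_top hp (by rw [normalizer_eq_top]; exact le_top)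
  have hN : normalizer (S : Set G) ≤ centralizer {t} := fun g hg => by
    have h3 : g * t * g⁻¹ ∈ S := conj_mem_of_mem_normalizer hg (hQ hk)
    have h4 : (⟨_, hS.le h3⟩ : centralizer ({t} : Set G)) ∈ centralizer (π.ker : Set (centralizer ({t} : Set G))) :=
      fun y hy => Subtype.ext (by
        have : g⁻¹ * y.1 * g⁻¹⁻¹ * t = t * _ := mem_centralizer_singleton_iff.1 (hS.le (conj_mem_of_mem_normalizer (inv_mem hg) (hQ hy)))
        change y.1 * (g * t * g⁻¹) = g * t * g⁻¹ * y.1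
        calc _ = g * (g⁻¹ * y.1 * g⁻¹⁻¹ * t) * g⁻¹ := by group
          _ = _ := by rw [this]; group)
    have h5 : (⟨_, hC h4⟩ : π.ker) ∈ zpowers (⟨tt t, hk⟩ : π.ker) :=
      h2 ▸ mem_center_iff.2 fun y => Subtype.ext (h4 y y.2)
    obtain ⟨i, hi, e⟩ := (Known.mem_zp_iff two_pos (h1.ord ▸ pow_orderOf_eq_one _)).1 h5
    have e : g * t * g⁻¹ = t ^ i := congrArg (·.1.1) e
    obtain rfl | rfl : i = 0 ∨ i = 1 := by omega
    · rw [show t = 1 by simpa using e, orderOf_one] at ht; omega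
    · exact mem_centralizer_singleton_iff.2 (mul_inv_eq_iff_eq_mul.1 (e.trans (pow_one t)))
  have hS2 : SylIn 2 S ⊤ := ⟨le_top, hS.pg, fun R _ hp hle => by
    by_contra hne
    have := Loc.lt_inf_normalizer hp (lt_of_le_of_ne hle (Ne.symm hne))
    exact this.ne' (hS.max _ (inf_le_right.trans hN) hp.to_inf_left this.le)⟩
  refine simple_of_par_hom hS2 (fun T hT => or_iff_not_imp_left.2 fun h0 => ?_) π hπ hp
    (by rw [Classical.card_alt5]; decide) hC hN P
  obtain ⟨hTS, hT⟩ := (grpFS_group S).sc_iff.1 hT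
  obtain ⟨x, hx⟩ := exists_prime_orderOf_dvd_card' (G := T) 2
    ((hS.pg.to_le hTS).card_eq_or_dvd.resolve_left (mt card_eq_one.1 h0))
  have hinv : ∀ s ∈ S, s ^ 2 = 1 → s ∈ T := fun s hs h2 => by
    by_cases e : s = 1
    · exact e ▸ one_mem _
    obtain ⟨g, hg⟩ := isConj_iff.1 (hone x s ((orderOf_coe x).trans hx) (orderOf_eq_prime h2 e))
    exact hg ▸ hT x x.2 g trivial (hg ▸ hs)
  have h3 : π.ker ≤ T.subgroupOf _ := by
    haveI : Fact (Nat.Prime 5) := ⟨by norm_num⟩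
    obtain ⟨u, -, hu⟩ := exists5 (map_top_of_surjective π hπ)
    have hn : (T.subgroupOf (centralizer {t}) ⊓ π.ker).Normal := ⟨fun y hy m =>
      ⟨hT y hy.1 m trivial (hQ (π.normal_ker.conj_mem y hy.2 m)), π.normal_ker.conj_mem y hy.2 m⟩⟩
    have h4 := Transfer.card_modEq_card_inf_centralizer (p := 5) (A := zpowers u)
      (Q := T.subgroupOf (centralizer {t}) ⊓ π.ker)
      (IsPGroup.of_card (n := 1) (by rw [Nat.card_zpowers, hu, pow_one])) (by rw [normalizer_eq_top]; exact le_top)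
    rw [inf_assoc, fix5 h32 hC (tt_ord ht) (tt_center t) hk hu, inf_eq_right.2 (zpowers_le.2
      (show tt t ∈ T.subgroupOf _ from hinv t (hQ hk) (ht ▸ pow_orderOf_eq_one t))), Nat.card_zpowers, tt_ord ht] at h4
    have h5 := Nat.card_le_card_of_injective (fun y : {y : π.ker // y ^ 2 = 1} =>
      (⟨y.1.1, hinv _ (hQ y.1.2) (congrArg (·.1.1) y.2), y.1.2⟩ : ↥(T.subgroupOf (centralizer {t}) ⊓ π.ker)))
      fun a b e => Subtype.ext (Subtype.ext (Subtype.mk.inj e))
    rw [(minus hπ hE h32 hC (tt_ord ht) (tt_center t)).1] at h5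
    have h6 := card_dvd_of_le (inf_le_right : T.subgroupOf (centralizer {t}) ⊓ π.ker ≤ _)
    rw [h32] at h6
    obtain ⟨k, hk, e⟩ := (Nat.dvd_prime_pow Nat.prime_two (m := 5)).1 h6
    refine inf_eq_right.1 (eq_of_le_of_card_ge inf_le_right ?_)
    rw [e] at h4 h5 ⊢
    rw [h32]
    interval_cases k <;> simp_all [Nat.ModEq]
  refine le_antisymm hTS fun s hs => ?_
  obtain ⟨⟨q, a⟩, e, -⟩ := hA.existsUnique ⟨s, hS.le hs⟩
  have e : q.1.1 * a.1.1 = s := congrArg Subtype.val e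
  have h4 : a.1.1 ∈ S := (mul_mem_cancel_left (show q.1.1 ∈ S from hQ q.2)).1 (e ▸ hs)
  obtain ⟨k, h5⟩ := hS.pg ⟨_, h4⟩
  have h6 : a.1 ^ 2 ∈ π.ker := by
    rw [MonoidHom.mem_ker, map_pow]
    exact a5_sq (k := k) (by rw [← map_pow, show a.1 ^ 2 ^ k = 1 from Subtype.ext (congrArg Subtype.val h5 :), map_one])
  have h7 : a.1 ^ 2 = 1 := disjoint_def.1 hA.disjoint h6 (A.pow_mem a.2 2)
  exact e ▸ T.mul_mem (h3 q.2) (hinv _ h4 (congrArg Subtype.val h7))

end Cfsg.Agent.HJ.J3t
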