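import Cfsg.Agent.Fus.Par
import Cfsg.Agent.Known.FiGrp
import Cfsg.Agent.Classical.DicksonSL
import Cfsg.Agent.PGrp.ES
import Cfsg.Agent.Transfer.Abelian

/-! Groups with one class of involutions and centraliser `2^{1+4}.A₅` (helper26): `J3t.cent_le` (2-constraint),
`J3t.minus` (minus type), `J3t.simple` (the 2-fusion system is simple in the split case). -/

set_option autoImplicit false

namespace Cfsg.Agent.HJ.J3t

open Subgroup Cfsg.Agent.PGrp Cfsg.Agent.Loc
open scoped commutatorElement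

local notation "A5" => alternatingGroup (Fin 5)

theorem pow5 {M : Type*} [Group M] {u : M} (hu : orderOf u = 5) : u ^ 5 = 1 := hu ▸ pow_orderOf_eq_one u

theorem a5_two {x y : A5} (hy : orderOf y = 5) (h : Commute x y) (hx : x ^ 32 = 1) : x = 1 := by
  have k : ∀ n, (x * y) ^ n = 1 → 5 ∣ n * 32 := fun n e => by
    have := congrArg (· ^ 32) e
    simp only [← pow_mul, one_pow] at this
    rw [h.mul_pow, mul_comm n, pow_mul, hx, one_pow, one_mul, mul_comm 32] at this
    exact hy.symm.dvd.trans (orderOf_dvd_of_pow_eq_one this)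
  rcases Classical.alt5_pow_eq_one (x * y) with e | e | e
  · exact absurd (k _ e) (by decide)
  · exact absurd (k _ e) (by decide)
  · rw [h.mul_pow, pow5 hy, mul_one] at e
    exact (pow_eq_one_iff_of_coprime (by decide : Nat.Coprime 5 32)).1 ⟨e, hx⟩

theorem a5_sq {x : A5} {k : ℕ} (hx : x ^ 2 ^ k = 1) : x ^ 2 = 1 := by
  rcases Classical.alt5_pow_eq_one x with e | e | e
  · exact e
  · rw [(pow_eq_one_iff_of_coprime (Nat.Coprime.pow_right k (by decide : Nat.Coprime 3 2))).1 ⟨e, hx⟩, one_pow]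
  · rw [(pow_eq_one_iff_of_coprime (Nat.Coprime.pow_right k (by decide : Nat.Coprime 5 2))).1 ⟨e, hx⟩, one_pow]

section ker
variable {M : Type*} [Group M] [Finite M] {π : M →* A5}

theorem ord5 (h32 : Nat.card π.ker = 32) {u : M} (hu : orderOf u = 5) : orderOf (π u) = 5 := by
  haveI : Fact (Nat.Prime 5) := ⟨by norm_num⟩
  refine orderOf_eq_prime (by rw [← map_pow, pow5 hu, map_one]) fun e => ?_
  have := orderOf_dvd_natCard (⟨u, e⟩ : π.ker)
  rw [← orderOf_coe, hu, h32] at this
  exact absurd this (by decide)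

theorem exists5 {C : Subgroup M} (h : C.map π = ⊤) : ∃ u ∈ C, orderOf u = 5 := by
  haveI : Fact (Nat.Prime 5) := ⟨by norm_num⟩
  obtain ⟨u, hu⟩ := exists_prime_orderOf_dvd_card' (G := C) 5 (by
    have := card_map_dvd C π
    rw [h, card_top, Classical.card_alt5] at this
    exact Dvd.dvd.trans (by decide) this)
  exact ⟨u, u.2, (orderOf_coe u).trans hu⟩

theorem mem_ker_of_comm (h32 : Nat.card π.ker = 32) {u a : M} (hu : orderOf u = 5) (h : Commute a u)
    (ha : a ^ 32 = 1) : a ∈ π.ker :=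
  a5_two (ord5 h32 hu) (h.map π) (by rw [← map_pow, ha, map_one])

/-- a central involution generates the centre of the kernel. -/
theorem isES (hπ : Function.Surjective π) (hE : IsExtraspecial 2 π.ker) (h32 : Nat.card π.ker = 32) {z : M}
    (hz : orderOf z = 2) (hc : z ∈ center M) : ∃ h : z ∈ π.ker, IsES 2 (⟨z, h⟩ : π.ker) ∧
      center π.ker = zpowers ⟨z, h⟩ := by
  obtain ⟨u, -, hu⟩ := exists5 (map_top_of_surjective π hπ)
  have h1 := mem_ker_of_comm h32 hu (mem_center_iff.1 hc u).symm (orderOf_dvd_iff_pow_eq_one.1 (by rw [hz]; decide))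
  obtain ⟨w, h2, h3⟩ := exists_isES hE
  have h4 : (⟨z, h1⟩ : π.ker) ∈ zpowers w := h3 ▸ mem_center_iff.2 fun y => Subtype.ext (mem_center_iff.1 hc y)
  obtain ⟨i, hi, e⟩ := (Known.mem_zp_iff two_pos (h2.ord ▸ pow_orderOf_eq_one w)).1 h4
  obtain rfl | rfl : i = 0 ∨ i = 1 := by omega
  · rw [show z = 1 from congrArg Subtype.val (e.trans (pow_zero _)), orderOf_one] at hz; omega
  · rw [pow_one] at e; exact ⟨h1, e ▸ h2, e ▸ h3⟩

theorem card_sq {Q : Type*} [Group Q] [Finite Q] {z : Q} (h : IsES 2 z) (hZ : center Q = zpowers z)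
    (h32 : Nat.card Q = 32) : (Nat.card {x : Q // x ^ 2 = 1} = 12 ∧ PRankLE 2 2 Q) ∨
      Nat.card {x : Q // x ^ 2 = 1} = 20 := by
  rcases h.wittIndex_cases hZ (m := 1) h32 with k | k
  · exact .inr (h.card_sq_plus hZ (m := 2) h32 k)
  · exact .inl ⟨by have := h.card_sq_minus hZ (m := 1) h32 k; omega, (h.pRankLE_iff k).2 le_rfl⟩

/-- an element of order five centralises only the centre of the kernel. -/
theorem fix5 (h32 : Nat.card π.ker = 32) (hC : centralizer (π.ker : Set M) ≤ π.ker) {z : M} (hz : orderOf z = 2)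
    (hc : z ∈ center M) (hk : z ∈ π.ker) {u : M} (hu : orderOf u = 5) :
    π.ker ⊓ centralizer (zpowers u : Set M) = zpowers z := by
  haveI : Fact (Nat.Prime 5) := ⟨by norm_num⟩
  have h1 := Transfer.card_modEq_card_inf_centralizer (p := 5) (A := zpowers u) (Q := π.ker)
    (IsPGroup.of_card (n := 1) (by rw [Nat.card_zpowers, hu, pow_one])) (by rw [normalizer_eq_top]; exact le_top)
  have h2 : zpowers z ≤ π.ker ⊓ centralizer (zpowers u : Set M) :=
    zpowers_le.2 ⟨hk, center_le_centralizer _ hc⟩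
  have h3 := card_dvd_of_le (inf_le_left : π.ker ⊓ centralizer (zpowers u : Set M) ≤ _)
  rw [h32] at h1 h3
  obtain ⟨k, hk, e⟩ := (Nat.dvd_prime_pow Nat.prime_two (m := 5)).1 h3
  by_cases h5 : k = 5
  · have h4 : π.ker ≤ centralizer (zpowers u : Set M) :=
      inf_eq_left.1 (eq_of_le_of_card_ge inf_le_left (by rw [e, h5, h32]; decide))
    have := ord5 h32 hu
    rw [show π u = 1 from hC (le_centralizer_iff.1 h4 (mem_zpowers u)), orderOf_one] at this
    omega
  refine (eq_of_le_of_card_ge h2 ?_).symm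
  rw [e] at h1 ⊢
  rw [Nat.card_zpowers, hz]
  have : k < 5 := by omega
  interval_cases k <;> simp_all [Nat.ModEq]

theorem minus (hπ : Function.Surjective π) (hE : IsExtraspecial 2 π.ker) (h32 : Nat.card π.ker = 32)
    (hC : centralizer (π.ker : Set M) ≤ π.ker) {z : M} (hz : orderOf z = 2) (hc : z ∈ center M) :
    Nat.card {x : π.ker // x ^ 2 = 1} = 12 ∧ PRankLE 2 2 π.ker := by
  classical
  obtain ⟨hk, h1, h2⟩ := isES hπ hE h32 hz hc
  refine (card_sq h1 h2 h32).resolve_right fun h => ?_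
  obtain ⟨u, -, hu⟩ := exists5 (map_top_of_surjective π hπ)
  haveI : Fact (Nat.Prime 5) := ⟨by norm_num⟩
  haveI := Fintype.ofFinite {x : π.ker // x ^ 2 = 1}
  let f : Function.End {x : π.ker // x ^ 2 = 1} := fun x => ⟨MulAut.conjNormal u x.1, by rw [← map_pow, x.2, map_one]⟩
  have hf : ∀ n x, ((f ^ n) x).1.1 = u ^ n * x.1.1 * (u ^ n)⁻¹ := fun n x => by
    induction n with
    | zero => simp; rfl
    | succ n ih =>
      rw [pow_succ']
      change u * ((f ^ n) x).1.1 * u⁻¹ = _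
      rw [ih, pow_succ']; group
  have h3 := Equiv.Perm.card_fixedPoints_modEq (f := f) (p := 5) (n := 1) (funext fun x => Subtype.ext
    (Subtype.ext (by rw [hf, pow_one, pow5 hu]; simp; rfl)))
  have h4 : Nat.card f.fixedPoints = Nat.card (zpowers z) := by
    rw [← fix5 h32 hC hz hc hk hu]
    refine Nat.card_congr ⟨fun x => ⟨x.1.1.1, x.1.1.2, Known.mem_cent_zp.2 ?_⟩,
      fun x => ⟨⟨⟨x.1, x.2.1⟩, Subtype.ext ?_⟩, Subtype.ext (Subtype.ext ?_)⟩, fun _ => rfl, fun _ => rfl⟩
    · exact (mul_inv_eq_iff_eq_mul.1 (congrArg (·.1.1) x.2)).symm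
    · have : x.1 ∈ zpowers z := fix5 h32 hC hz hc hk hu ▸ x.2
      obtain ⟨i, e⟩ := this
      change x.1 ^ 2 = 1
      rw [← e, ← zpow_natCast, ← zpow_mul, mul_comm, zpow_mul, zpow_natCast, ← hz, pow_orderOf_eq_one, one_zpow]
    · exact mul_inv_eq_iff_eq_mul.2 (Known.mem_cent_zp.1 x.2.2).symm
  rw [← Nat.card_eq_fintype_card, ← Nat.card_eq_fintype_card, h, h4, Nat.card_zpowers, hz] at h3
  exact absurd h3 (by decide)

end ker

variable {G : Type*} [Group G] [Finite G] {t : G} {π : centralizer ({t} : Set G) →* A5}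

/-- the involution as an element of its centraliser. -/
def tt (t : G) : centralizer ({t} : Set G) := ⟨t, mem_centralizer_singleton_iff.2 rfl⟩

omit [Finite G] in
theorem tt_center (t : G) : tt t ∈ center (centralizer ({t} : Set G)) :=
  mem_center_iff.2 fun y => Subtype.ext (mem_centralizer_singleton_iff.1 y.2)

omit [Finite G] in
theorem tt_ord (ht : orderOf t = 2) : orderOf (tt t) = 2 := (orderOf_mk _ _).trans ht

theorem cent_le (ht : orderOf t = 2) (hπ : Function.Surjective π) (hE : IsExtraspecial 2 π.ker)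
    (h32 : Nat.card π.ker = 32) (hone : ∀ x y : G, orderOf x = 2 → orderOf y = 2 → IsConj x y) :
    centralizer (π.ker : Set (centralizer ({t} : Set G))) ≤ π.ker := by
  rcases (Normal.map (inferInstance : (centralizer (π.ker : Set (centralizer ({t} : Set G)))).Normal) π
    hπ).eq_bot_or_eq_top with e | e
  · rwa [Subgroup.map_eq_bot_iff] at e
  exfalso
  obtain ⟨u, hu, hu5⟩ := exists5 e
  obtain ⟨hk, h1, h2⟩ := isES hπ hE h32 (tt_ord ht) (tt_center t)
  set z : π.ker := ⟨tt t, hk⟩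
  obtain ⟨q, hq, hq'⟩ : ∃ q : π.ker, q ^ 2 = 1 ∧ q ∉ zpowers z := by
    by_contra! h
    have := Nat.card_le_card_of_injective (fun x : {x : π.ker // x ^ 2 = 1} => (⟨x.1, h x.1 x.2⟩ : zpowers z))
      fun x y e => Subtype.ext (Subtype.mk.inj e)
    rw [h1.card_zpowers] at this
    rcases card_sq h1 h2 h32 with k | k
    · rw [k.1] at this; omega
    · rw [k] at this; omega
  have hq1 : q ≠ 1 := fun e => hq' (e ▸ one_mem _)
  obtain ⟨g, hg⟩ := isConj_iff.1 (hone q.1.1 t (by rw [orderOf_coe, orderOf_coe]; exact orderOf_eq_prime hq hq1) ht)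
  have m : ∀ a : G, a * q.1.1 = q.1.1 * a → g * a * g⁻¹ ∈ centralizer ({t} : Set G) := fun a ha => by
    rw [mem_centralizer_singleton_iff, ← hg, conj_mul, conj_mul, ha]
  have hu' := m u (congrArg Subtype.val (hu q.1 q.2).symm)
  set A := centralizer ((zpowers z ⊔ zpowers q : Subgroup π.ker) : Set π.ker)
  have k : ∀ a ∈ A, ∃ b : π.ker, b.1.1 = g * a.1.1 * g⁻¹ := fun a ha => by
    have h3 := m a.1.1 (congrArg (·.1.1) (ha q (mem_sup_right (mem_zpowers q))).symm)
    refine ⟨⟨⟨_, h3⟩, mem_ker_of_comm h32 (u := ⟨_, hu'⟩) ?_ (Subtype.ext ?_) (Subtype.ext ?_)⟩, rfl⟩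
    · rw [orderOf_mk, ← hu5, ← orderOf_coe]; exact (MulAut.conj g).orderOf_eq _
    · change g * a.1.1 * g⁻¹ * (g * u.1 * g⁻¹) = g * u.1 * g⁻¹ * (g * a.1.1 * g⁻¹)
      rw [conj_mul, conj_mul]; exact congrArg (fun x => g * x.1 * g⁻¹) (hu a.1 a.2)
    · change (g * a.1.1 * g⁻¹) ^ 32 = 1
      have : a ^ 32 = 1 := h32 ▸ pow_card_eq_one'
      rw [conj_pow, show a.1.1 ^ 32 = 1 from congrArg (·.1.1) this, mul_one, mul_inv_cancel]
  have h4 : A ≤ centralizer (A : Set π.ker) := fun b hb a ha => by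
    obtain ⟨a', ea⟩ := k a ha
    obtain ⟨b', eb⟩ := k b hb
    by_contra h
    have e1 : ∀ x y : π.ker, ⁅x, y⁆ ≠ 1 → ⁅x, y⁆.1.1 = t := fun x y h => by
      obtain ⟨i, hi, e⟩ := (Known.mem_zp_iff two_pos (h1.ord ▸ pow_orderOf_eq_one z)).1 (h1.comm x y)
      obtain rfl | rfl : i = 0 ∨ i = 1 := by omega
      · exact absurd (e.trans (pow_zero _)) h
      · rw [e, pow_one]; rfl
    have e2 := e1 a b fun e => h (commutatorElement_eq_one_iff_mul_comm.1 e)
    have e3 : ⁅a', b'⁆.1.1 = g * t * g⁻¹ := by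
      refine Eq.trans ?_ (congrArg (fun x => g * x * g⁻¹) e2)
      simp only [commutatorElement_def, coe_mul, coe_inv, ea, eb]; group
    have e4 := e1 a' b' fun e => by
      rw [e] at e3
      have : t = 1 := by simpa using e3.symm
      rw [this, orderOf_one] at ht; omega
    have e5 : q = z := Subtype.ext (Subtype.ext (by
      have := hg.trans (e4.symm.trans e3)
      exact mul_left_cancel (mul_right_cancel this)))
    exact hq' (e5 ▸ mem_zpowers z)
  have h5 := h1.card_mul_card_centralizer h2 (A := zpowers z ⊔ zpowers q) (mem_sup_left (mem_zpowers z))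
  have h6 := h1.card_mul_card_centralizer h2 (A := A) (center_le_centralizer _ h1.cen)
  have h7 := card_le_of_le h4
  rw [Known.ext_card two_pos (fun k hk => h1.normal.conj_mem k hk q) (fun k hk => h1.normal.conj_mem' k hk q)
    (hq ▸ one_mem _) (fun i h0 h2 => by rwa [show i = 1 by omega, pow_one]), h1.card_zpowers, h32] at h5
  rw [h32] at h6
  have h8 : Nat.card A = 16 := by change 2 * 2 * Nat.card A = _ at h5; omega
  rw [h8] at h6 h7
  omega

end Cfsg.Agent.HJ.J3t
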