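import Cfsg.Agent.HJ.Tab

/-! The centraliser `C(z) = 2^{1+4}:A5` with its standard generators (helper24): `Loc a x e s z t` and facts about it
proved by reflection (`Loc.dec`): relations, classes of involutions `cl`, centralisers `cx`, `cs3`, `csa`, `ca`. -/

set_option autoImplicit false
set_option maxRecDepth 100000

namespace Cfsg.Agent.HJ

open Cfsg.Agent.Comp Cfsg.Agent.Spor Subgroup

variable {G : Type*} [Group G]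

/-- The letters. -/
def lets (a x e s z t : G) : ℕ → G :=
  scons a <| scons a⁻¹ <| scons x <| scons e <| scons s <| scons z <| scons t fun _ => 1

theorem lets_ge (a x e s z t : G) (i : ℕ) (hi : 7 ≤ i) : lets a x e s z t i = 1 := by
  obtain ⟨k, rfl⟩ := Nat.exists_eq_add_of_le' hi; rfl

/-- `C(z)` is the split extension `2^{1+4}:A5` with its standard generators: `a = (0 1 2)`, `x = (0 1)(2 3)`,
`e = (0 1)(3 4)` in `A5` and `s = s₄`, `t = s₃` in `2^{1+4}`. -/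
structure Loc (a x e s z t : G) : Prop where
  rels : ∀ r ∈ JHJ0.rels, ev (lets a x e s z t) r = 1
  cen : genL (lets a x e s z t) (List.range 7) = centralizer {z}
  card : Nat.card (centralizer ({z} : Set G)) = 1920

namespace F
/-- letters as terms -/
abbrev a : Tm := .g 0
abbrev A : Tm := .g 1
abbrev x : Tm := .g 2
abbrev e : Tm := .g 3
abbrev s : Tm := .g 4
abbrev z : Tm := .g 5
abbrev t : Tm := .g 6
abbrev u : Tm := .v 0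
abbrev v : Tm := .v 1
scoped infix:50 " ≐ " => Fm.eq
scoped infixr:35 " ⋏ " => Fm.and
scoped infixr:30 " ⋎ " => Fm.or
scoped infixr:25 " ⟹ " => Fm.imp
/-- commute -/
abbrev cm (p q : Tm) : Fm := p * q ≐ q * p
/-- different -/
abbrev ne (p q : Tm) : Fm := .not (p ≐ q)
/-- in `V` -/
abbrev inV (p : Tm) : Fm := p ≐ 1 ⋎ p ≐ z ⋎ p ≐ s ⋎ p ≐ z * s
/-- in `W^#` -/
abbrev inW (w p : Tm) : Fm := p ≐ w ⋎ p ≐ a * w * A ⋎ p ≐ A * w * a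
/-- in the dihedral group -/
abbrev inD (p : Tm) : Fm := p ≐ 1 ⋎ p ≐ s * t ⋎ p ≐ s * t * (s * t) ⋎ p ≐ s * t * (s * t) * (s * t) ⋎
  p ≐ s ⋎ p ≐ s * (s * t) ⋎ p ≐ s * (s * t * (s * t)) ⋎ p ≐ s * (s * t * (s * t) * (s * t))
end F

/-- `h` lies in the four-group `⟨z, s⟩`. -/
abbrev InV (s z h : G) : Prop := h = 1 ∨ h = z ∨ h = s ∨ h = z * s
/-- `h` is a conjugate of `w` under `⟨a⟩`. -/
abbrev InW (a w h : G) : Prop := h = w ∨ h = a * w * a⁻¹ ∨ h = a⁻¹ * w * a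
/-- `h` lies in the dihedral group `⟨s, t⟩`. -/
abbrev InD (s t h : G) : Prop := h = 1 ∨ h = s * t ∨ h = s * t * (s * t) ∨ h = s * t * (s * t) * (s * t) ∨
  h = s ∨ h = s * (s * t) ∨ h = s * (s * t * (s * t)) ∨ h = s * (s * t * (s * t) * (s * t))

namespace Loc

open F

variable [Finite G] {a x e s z t : G} (L : Loc a x e s z t)
include L

theorem reg : ∃ f, Reg (centralizer {z}) 1920 T0.mu f ∧ Cor 1920 f T0.gc (lets a x e s z t) :=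
  L.cen ▸ T0.exists_reg (lets_ge a x e s z t) L.rels (by rw [L.cen, L.card])

theorem dec (p : Fm) (h : p.dec 1920 T0.mu T0.gc (fun _ => 0) = true) :
    p.sat (centralizer {z}) (lets a x e s z t) fun _ => 1 :=
  let ⟨_, R, c⟩ := L.reg; R.sound c p h

theorem eqs : (a * a * a = 1 ∧ x * x = 1 ∧ e * e = 1 ∧ s * s = 1 ∧ z * z = 1 ∧ t * t = 1) ∧
    (a * z = z * a ∧ x * z = z * x ∧ e * z = z * e ∧ s * z = z * s ∧ t * z = z * t) ∧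
    (a * s = s * a ∧ a * t = t * a ∧ x * s = s * x ∧ t * s * t = z * s ∧ e * s * e = t ∧ e * a * e = a⁻¹ ∧
      s * t * (s * t) = z) ∧
    (a * x * (a * x) * (a * x) = 1 ∧ a * (t * x * t) * (a * (t * x * t)) * (a * (t * x * t)) = 1 ∧
      t * x * t * s = s * (t * x * t) ∧ x * (a * x * a⁻¹) = a * x * a⁻¹ * x) :=
  L.dec (((F.a * F.a * F.a ≐ 1) ⋏ (F.x * F.x ≐ 1) ⋏ (F.e * F.e ≐ 1) ⋏ (F.s * F.s ≐ 1) ⋏ (F.z * F.z ≐ 1) ⋏
      (F.t * F.t ≐ 1)) ⋏ (cm F.a F.z ⋏ cm F.x F.z ⋏ cm F.e F.z ⋏ cm F.s F.z ⋏ cm F.t F.z) ⋏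
    (cm F.a F.s ⋏ cm F.a F.t ⋏ cm F.x F.s ⋏ (F.t * F.s * F.t ≐ F.z * F.s) ⋏ (F.e * F.s * F.e ≐ F.t) ⋏
      (F.e * F.a * F.e ≐ F.A) ⋏ (F.s * F.t * (F.s * F.t) ≐ F.z)) ⋏
    ((F.a * F.x * (F.a * F.x) * (F.a * F.x) ≐ 1) ⋏
      (F.a * (F.t * F.x * F.t) * (F.a * (F.t * F.x * F.t)) * (F.a * (F.t * F.x * F.t)) ≐ 1) ⋏
      cm (F.t * F.x * F.t) F.s ⋏ cm F.x (F.a * F.x * F.A))) (by decide +kernel)

theorem aaa : a * a * a = 1 := L.eqs.1.1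
theorem xx : x * x = 1 := L.eqs.1.2.1
theorem ee : e * e = 1 := L.eqs.1.2.2.1
theorem ss : s * s = 1 := L.eqs.1.2.2.2.1
theorem zz : z * z = 1 := L.eqs.1.2.2.2.2.1
theorem tt : t * t = 1 := L.eqs.1.2.2.2.2.2
theorem az : Commute a z := L.eqs.2.1.1
theorem xz : Commute x z := L.eqs.2.1.2.1
theorem ez : Commute e z := L.eqs.2.1.2.2.1
theorem sz : Commute s z := L.eqs.2.1.2.2.2.1
theorem tz : Commute t z := L.eqs.2.1.2.2.2.2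
theorem as : Commute a s := L.eqs.2.2.1.1
theorem at' : Commute a t := L.eqs.2.2.1.2.1
theorem xs : Commute x s := L.eqs.2.2.1.2.2.1
theorem tst : t * s * t = z * s := L.eqs.2.2.1.2.2.2.1
theorem ese : e * s * e = t := L.eqs.2.2.1.2.2.2.2.1
theorem eae : e * a * e = a⁻¹ := L.eqs.2.2.1.2.2.2.2.2.1
theorem stst : s * t * (s * t) = z := L.eqs.2.2.1.2.2.2.2.2.2

theorem nes : (a ≠ 1 ∧ x ≠ 1 ∧ s ≠ 1 ∧ z ≠ 1 ∧ s ≠ z ∧ x ≠ z ∧ t ≠ z) ∧ x * (t * x * t) ≠ t * x * t * x ∧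
    (a * x * a⁻¹ ≠ 1 ∧ a * x * a⁻¹ ≠ x) ∧
    x * (t * x * t) * (x * (t * x * t)) = z ∧ x * (t * (a * x * a⁻¹) * t) * (x * (t * (a * x * a⁻¹) * t)) = z * s :=
  L.dec ((ne F.a 1 ⋏ ne F.x 1 ⋏ ne F.s 1 ⋏ ne F.z 1 ⋏ ne F.s F.z ⋏ ne F.x F.z ⋏ ne F.t F.z) ⋏
    ne (F.x * (F.t * F.x * F.t)) (F.t * F.x * F.t * F.x) ⋏ (ne (F.a * F.x * A) 1 ⋏ ne (F.a * F.x * A) F.x) ⋏
    (F.x * (F.t * F.x * F.t) * (F.x * (F.t * F.x * F.t)) ≐ F.z) ⋏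
    (F.x * (F.t * (F.a * F.x * A) * F.t) * (F.x * (F.t * (F.a * F.x * A) * F.t)) ≐ F.z * F.s)) (by decide +kernel)

theorem a1 : a ≠ 1 := L.nes.1.1
theorem x1 : x ≠ 1 := L.nes.1.2.1
theorem s1 : s ≠ 1 := L.nes.1.2.2.1
theorem z1 : z ≠ 1 := L.nes.1.2.2.2.1
theorem sz' : s ≠ z := L.nes.1.2.2.2.2.1
theorem xz' : x ≠ z := L.nes.1.2.2.2.2.2.1
theorem tz' : t ≠ z := L.nes.1.2.2.2.2.2.2

/-- The classes of involutions. -/
theorem cl : ∀ h ∈ centralizer {z}, h * h = 1 → h = 1 ∨ h = z ∨ (∃ k ∈ centralizer {z}, k * x = h * k) ∨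
    ∃ k ∈ centralizer {z}, k * s = h * k :=
  L.dec (.all ((u * u ≐ 1) ⟹ (u ≐ 1) ⋎ (u ≐ F.z) ⋎ .ex (u * F.x ≐ v * u) ⋎ .ex (u * F.s ≐ v * u)))
    (by decide +kernel)

/-- The centraliser of `x`. -/
theorem cx : ∀ h ∈ centralizer {z}, h * x = x * h → (h * h = 1 ∧ h * s = s * h ∧ h * (a * x * a⁻¹) = a * x * a⁻¹ * h) ∧
    (InV s z h ∨ InV s z (x * h) ∨ InV s z (a * x * a⁻¹ * h) ∨ InV s z (x * (a * x * a⁻¹) * h)) ∧
    (InV s z h ∨ ∃ k ∈ centralizer {z}, k * x = h * k) :=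
  L.dec (.all (cm u F.x ⟹ ((u * u ≐ 1) ⋏ cm u F.s ⋏ cm u (F.a * F.x * A)) ⋏
    (inV u ⋎ inV (F.x * u) ⋎ inV (F.a * F.x * A * u) ⋎ inV (F.x * (F.a * F.x * A) * u)) ⋏
    (inV u ⋎ .ex (u * F.x ≐ v * u)))) (by decide +kernel)

/-- The centraliser of `s`. -/
theorem cs : ∀ h ∈ centralizer {z}, h * s = s * h →
    (h * h * h = 1 → h = 1 ∨ ∃ k ∈ centralizer {z}, k * s = s * k ∧ (k * h = a * k ∨ k * h = a⁻¹ * k)) ∧
    (h * h = 1 → a * h * (a * h) * (a * h) = 1 → h = 1 ∨ InW a x h ∨ InW a (t * x * t) h) ∧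
    (h * h * h * h * h = 1 → h = 1) ∧
    (h * a = a * h → (h * x = x * h → InV s z h) ∧ InV s z (h * h * h) ∧ (h * h * h = 1 → h = 1 ∨ h = a ∨ h = a⁻¹)) :=
  L.dec (.all (cm u F.s ⟹ ((u * u * u ≐ 1) ⟹ (u ≐ 1) ⋎ .ex (cm u F.s ⋏ ((u * v ≐ F.a * u) ⋎ (u * v ≐ A * u)))) ⋏
    ((u * u ≐ 1) ⟹ (F.a * u * (F.a * u) * (F.a * u) ≐ 1) ⟹ (u ≐ 1) ⋎ inW F.x u ⋎ inW (F.t * F.x * F.t) u) ⋏
    ((u * u * u * u * u ≐ 1) ⟹ u ≐ 1) ⋏
    (cm u F.a ⟹ (cm u F.x ⟹ inV u) ⋏ inV (u * u * u) ⋏ ((u * u * u ≐ 1) ⟹ (u ≐ 1) ⋎ (u ≐ F.a) ⋎ (u ≐ A)))))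
    (by decide +kernel)

theorem cw : ∀ h ∈ centralizer {z}, InW a (t * x * t) h → ∀ k ∈ centralizer {z}, InW a (t * x * t) k → k * h = h * k :=
  L.dec (.all (inW (F.t * F.x * F.t) u ⟹ .all (inW (F.t * F.x * F.t) u ⟹ cm u v))) (by decide +kernel)

/-- The centraliser of `a`. -/
theorem ca : ∀ h ∈ centralizer {z}, h * a = a * h → InD s t h ∨ InD s t (h * a) ∨ InD s t (h * a⁻¹) :=
  L.dec (.all (cm u F.a ⟹ inD u ⋎ inD (u * F.a) ⋎ inD (u * A))) (by decide +kernel)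

/-- The centre, and there is no element of order 16. -/
theorem ctr : ∀ h ∈ centralizer {z}, (h * a = a * h → h * s = s * h → h * e = e * h → h * h = 1) ∧
    ∀ k, k = h * h * (h * h) * (h * h * (h * h)) → k * k = 1 → k = 1 := fun h hh =>
  have := L.dec (.all ((cm u F.a ⟹ cm u F.s ⟹ cm u F.e ⟹ u * u ≐ 1) ⋏
    ((u * u * (u * u) * (u * u * (u * u)) * (u * u * (u * u) * (u * u * (u * u))) ≐ 1) ⟹
      u * u * (u * u) * (u * u * (u * u)) ≐ 1))) (by decide +kernel) h hh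
  ⟨this.1, fun _ hk => hk ▸ this.2⟩

end Loc

end Cfsg.Agent.HJ
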