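import Cfsg.Agent.HJ.Five

/-! The two groups `2^{1+4}.A5` (helper24): `struct` gives standard generators of `C(z)`, satisfying `Loc` (split
extension) or `Loc1`; `Loc1.not_conj`, `Loc.conj_s` (a conjugate of `z` in `C(z)` forces `Loc` and `z ~ s`). -/

set_option autoImplicit false
set_option maxRecDepth 100000

namespace Cfsg.Agent.HJ

open Cfsg.Agent.Comp Cfsg.Agent.Spor Subgroup Cfsg.Agent.LES Equiv

/-- `(0 1 2)` -/
def pa : Perm (Fin 5) := ⟨![1, 2, 0, 3, 4], ![2, 0, 1, 3, 4], by decide, by decide⟩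
/-- `(0 1)(2 3)` -/
def px : Perm (Fin 5) := ⟨![1, 0, 3, 2, 4], ![1, 0, 3, 2, 4], by decide, by decide⟩
/-- `(0 1)(3 4)` -/
def pe : Perm (Fin 5) := ⟨![1, 0, 2, 4, 3], ![1, 0, 2, 4, 3], by decide, by decide⟩

theorem a5_words : ∀ σ : Perm (Fin 5), Perm.sign σ = 1 → ∃ w ∈ [[], [0], [1], [2], [0, 0], [0, 1], [0, 2], [1, 0], [1, 2],
    [2, 0], [2, 1], [0, 0, 1], [0, 1, 0], [0, 1, 2], [0, 2, 1], [1, 0, 0], [1, 0, 1], [1, 0, 2], [1, 2, 0], [1, 2, 1],
    [2, 0, 1], [2, 1, 0], [0, 0, 1, 0], [0, 0, 1, 2], [0, 1, 0, 0], [0, 1, 0, 2], [0, 1, 2, 0], [0, 1, 2, 1], [0, 2, 1, 0],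
    [1, 0, 1, 2], [1, 0, 2, 1], [1, 2, 0, 1], [1, 2, 1, 0], [2, 0, 1, 0], [2, 0, 1, 2], [2, 1, 0, 0], [2, 1, 0, 1],
    [2, 1, 0, 2], [0, 0, 1, 0, 2], [0, 1, 0, 2, 1], [0, 1, 2, 0, 1], [0, 1, 2, 1, 0], [0, 2, 1, 0, 1], [0, 2, 1, 0, 2],
    [1, 0, 1, 2, 1], [1, 0, 2, 1, 0], [1, 2, 0, 1, 0], [1, 2, 1, 0, 1], [2, 0, 1, 0, 2], [2, 0, 1, 2, 0],
    [0, 0, 1, 0, 2, 1], [0, 1, 0, 2, 1, 0], [0, 1, 2, 0, 1, 0], [0, 1, 2, 1, 0, 1], [1, 0, 1, 2, 1, 0],
    [1, 0, 2, 1, 0, 1], [1, 0, 2, 1, 0, 2], [2, 0, 1, 2, 0, 1], [0, 0, 1, 0, 2, 1, 0], [0, 1, 0, 2, 1, 0, 1]],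
    ev (scons pa <| scons px fun _ => pe) w = σ := by decide +kernel

theorem pinv (σ : Perm (Fin 5)) (i : Fin 5) : σ⁻¹ (σ i) = i := σ.symm_apply_apply i

variable {G : Type*} [Group G] {Q : Subgroup G} {z h k : G} {s : Fin 5 → G} {σ τ : Perm (Fin 5)}

/-- `h` centralises `z` and permutes the `s i` by `σ`. -/
def Act (z : G) (s : Fin 5 → G) (h : G) (σ : Perm (Fin 5)) : Prop := Commute h z ∧ ∀ i, κ h (s i) = s (σ i)

theorem Act.one : Act z s 1 1 := ⟨Commute.one_left z, fun i => by simp⟩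
theorem Act.mul (h1 : Act z s h σ) (h2 : Act z s k τ) : Act z s (h * k) (σ * τ) :=
  ⟨h1.1.mul_left h2.1, fun i => by rw [cj_mul, h2.2, h1.2]; rfl⟩
theorem Act.inv (h1 : Act z s h σ) : Act z s h⁻¹ σ⁻¹ := ⟨h1.1.inv_left, fun i => cj_inv (by rw [h1.2]; simp)⟩
theorem Act.congr (h1 : Act z s h σ) (e : σ = τ) : Act z s h τ := e ▸ h1

theorem Act.ev {g : ℕ → G} {p : ℕ → Perm (Fin 5)} (H : ∀ i, Act z s (g i) (p i)) (w : List ℕ) :
    Act z s (ev g w) (ev p w) := by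
  induction w with
  | nil => exact .one
  | cons i w ih => exact ih.mul (H i)

/-- The letters of the non-split group. -/
def lets1 (a x e s z t : G) : ℕ → G :=
  scons a <| scons a⁻¹ <| scons x <| scons e <| scons s <| scons z <| scons t <| scons x⁻¹ <| scons e⁻¹ fun _ => 1

/-- `C(z)` is the group `2^{1+4}.A5` containing `SL2(5)`. -/
structure Loc1 (a x e s z t : G) : Prop where
  rels : ∀ r ∈ JHJ1.rels, ev (lets1 a x e s z t) r = 1
  cen : genL (lets1 a x e s z t) (List.range 9) = centralizer {z}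
  card : Nat.card (centralizer ({z} : Set G)) = 1920

variable [Finite G]

namespace Five

variable (V : Five Q z s) (L : LE Q z)
include V L

theorem actz (h1 : Act z s h σ) : Act z s (h * z) σ :=
  (h1.mul (τ := 1) ⟨rfl, fun i => cj_eq.2 (L.zc _ (V.mem i)).symm.eq⟩).congr (mul_one σ)

theorem two (h1 : Act z s h σ) (h2 : Act z s k σ) : PM z h k := by
  have A := (h2.inv.mul h1).congr (inv_mul_cancel σ)
  have := L.cQ (k⁻¹ * h) fun y hy => by
    rw [← V.gen] at hy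
    refine (memC.1 (genL_le (H := centralizer {k⁻¹ * h}) (fun i hi => memC.2 ?_) hy)).symm
    have := List.mem_range.1 hi
    interval_cases i
    exacts [(cj_eq.1 (A.2 0)).symm, (cj_eq.1 (A.2 1)).symm, (cj_eq.1 (A.2 2)).symm, (cj_eq.1 (A.2 3)).symm,
      (cj_eq.1 (A.2 4)).symm, A.1.symm.eq]
  exact this.imp (fun e => (inv_mul_eq_one.1 e).symm) fun e => by rw [← e, mul_inv_cancel_left]

theorem cube {p : G} (h1 : Act z s h σ) (hp : Act z s p τ) (e : τ * σ * (τ * σ) * (τ * σ) = 1) :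
    ∃ h', Act z s h' σ ∧ p * h' * (p * h') * (p * h') = 1 := by
  have A := hp.mul h1
  rcases V.two L (((A.mul A).mul A).congr e) .one with e | e
  · exact ⟨h, h1, e⟩
  · refine ⟨h * z, V.actz L h1, ?_⟩
    rw [← mul_assoc p, ← pow_three', A.1.mul_pow, pow_three', pow_three', e, L.zz]; simp only [one_mul, L.zz]

theorem sq_eq (h1 : Act z s h σ) (h2 : Act z s k σ) : h * h = k * k := by
  rcases V.two L h1 h2 with e | e <;> rw [e]
  rw [← pow_two, h2.1.mul_pow, pow_two, pow_two, L.zz, mul_one]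

variable (h32 : Nat.card Q = 32)
include h32

theorem mem_of_pm (hc : Commute h z) (hh : ∀ i, PM z (κ h (s i)) (s i)) : h ∈ Q := by
  obtain ⟨q, hq, e⟩ := V.fix L.toES h32 (i := 4) (j := 3) (k := 2) (l := 1) (m := 0) (by decide +kernel) hh rfl
    (by change κ h _ * κ h _ * κ h _ * κ h _ * κ h _ = 1; simp only [← map_mul, V.prod, map_one])
  rcases V.two L (h := q * h) ⟨(L.zc q hq).mul_left hc, fun i => (cj_mul _ _ _).trans (e i)⟩ .one with e | e
  · rw [eq_inv_of_mul_eq_one_right e]; exact inv_mem hq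
  · rw [eq_inv_mul_of_mul_eq e, one_mul]; exact mul_mem (inv_mem hq) L.zQ

theorem exists_hom : ∃ π : centralizer ({z} : Set G) →* Perm (Fin 5), 
    ∀ (h : centralizer ({z} : Set G)) i, PM z (κ (h : G) (s i)) (s (π h i)) := by
  have ex : ∀ (h : centralizer ({z} : Set G)) i, ∃ j, PM z (κ (h : G) (s i)) (s j) := fun h i => by
    obtain ⟨j, hj⟩ := exists_ne i
    refine V.invol L.toES h32 (L.conj_mem (memC.1 h.2) (V.mem i)) (by rw [← map_mul, V.sq, map_one])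
      (fun e => V.ac i j hj.symm (cj_one.1 e ▸ Commute.one_left _)) fun e => V.ac i j hj.symm ?_
    rw [cj_inj.1 (e.trans (cj_eq.2 (memC.1 h.2)).symm)]
    exact (L.zc _ (V.mem j)).symm
  choose F hF using ex
  let f : centralizer ({z} : Set G) →* Function.End (Fin 5) :=
    { toFun := F
      map_one' := funext fun i => PM.uniq V L.toES (hF 1 i) (.inl (by simp; rfl))
      map_mul' := fun a b => funext fun i => PM.uniq V L.toES (hF (a * b) i) (by
        change PM z (κ ((a : G) * b) (s i)) (s (F a (F b i)))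
        rw [cj_mul]
        rcases hF b i with e | e <;> rw [e]
        · exact hF a _
        · rw [map_mul, cj_eq.2 (memC.1 a.2)]
          rcases hF a (F b i) with e | e <;> rw [e]
          · exact .inr rfl
          · exact .inl (by rw [mul_assoc, L.zz, mul_one])) }
  exact ⟨f.toHomPerm, hF⟩

variable (hc : Nat.card (centralizer ({z} : Set G)) = 1920)
include hc

theorem exists_pm : (∀ h, Commute h z → ∃ σ : Perm (Fin 5), Perm.sign σ = 1 ∧ ∀ i, PM z (κ h (s i)) (s (σ i))) ∧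
    ∀ σ : Perm (Fin 5), Perm.sign σ = 1 → ∃ h, Commute h z ∧ ∀ i, PM z (κ h (s i)) (s (σ i)) := by
  obtain ⟨π, hπ⟩ := V.exists_hom L h32
  have hQ : Q ≤ centralizer {z} := fun q hq => memC.2 (L.zc q hq)
  have k : π.ker = Q.subgroupOf _ := Subgroup.ext fun h => ⟨fun e => V.mem_of_pm L h32 (memC.1 h.2) fun i => by
    have := hπ h i; rwa [MonoidHom.mem_ker.1 e] at this,
    fun e => Equiv.ext fun i => PM.uniq V L.toES (hπ h i) (L.comm _ e _ (V.mem i))⟩
  have c1 := π.ker.card_mul_index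
  rw [index_ker, k, Nat.card_congr (subgroupOfEquivOfLe hQ).toEquiv, h32, hc] at c1
  have c2 := π.range.card_mul_index
  rw [show Nat.card π.range = 60 by omega, Nat.card_perm, Nat.card_fin] at c2
  have r := Perm.eq_alternatingGroup_of_index_eq_two (G := π.range) (by norm_num [Nat.factorial] at c2; omega)
  refine ⟨fun h hh => ⟨π ⟨h, memC.2 hh⟩, Perm.mem_alternatingGroup.1 (r ▸ ⟨_, rfl⟩), hπ ⟨h, memC.2 hh⟩⟩, fun σ hσ => ?_⟩
  obtain ⟨h, rfl⟩ : σ ∈ π.range := r ▸ Perm.mem_alternatingGroup.2 hσ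
  exact ⟨h, memC.1 h.2, hπ h⟩

theorem lift (hσ : Perm.sign σ = 1) (hp : (fixF (4 - σ 0) (4 - σ 1) (4 - σ 2) (4 - σ 3) (4 - σ 4)).dec 32 TQ.mu TQ.gc
    (fun _ => 0) = true) : ∃ h, Act z s h σ := by
  obtain ⟨h, h1, h2⟩ := (V.exists_pm L h32 hc).2 σ hσ
  have r : ∀ (t : Fin 5 → G) (n : Fin 5),
      (scons (t 4) <| scons (t 3) <| scons (t 2) <| scons (t 1) <| scons (t 0) fun _ => 1) (4 - n) = t n :=
    fun t n => by fin_cases n <;> rfl
  have key : ∀ t : Fin 5 → G, (∀ n, PM z (t n) (s n)) → t (σ 0) * t (σ 1) * t (σ 2) * t (σ 3) * t (σ 4) = 1 →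
      ∃ q ∈ Q, ∀ n, κ q (t n) = s n := fun t h1 h2 => V.fix L.toES h32 hp h1 rfl (by simpa only [r t] using h2)
  obtain ⟨q, hq, e⟩ := key (fun n => κ h (s (σ⁻¹ n))) (fun n => by simpa using h2 (σ⁻¹ n))
    (by simp only [pinv, ← map_mul, V.prod, map_one])
  exact ⟨q * h, (L.zc q hq).mul_left h1, fun i => by simpa only [cj_mul, pinv] using e (σ i)⟩

theorem gen_le {a x e : G} (ha : Act z s a pa) (hx : Act z s x px) (he : Act z s e pe) {K : Subgroup G} (m0 : a ∈ K)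
    (m2 : x ∈ K) (m3 : e ∈ K) (m4 : s 4 ∈ K) (m5 : z ∈ K) (m6 : s 3 ∈ K) : centralizer {z} ≤ K := fun h hh => by
  have c : ∀ g ∈ K, ∀ u ∈ K, κ g u ∈ K := fun g hg u hu => mul_mem (mul_mem hg hu) (inv_mem hg)
  have s2 : s 2 ∈ K := Set.mem_of_eq_of_mem (hx.2 3).symm (c _ m2 _ m6)
  have s0 : s 0 ∈ K := Set.mem_of_eq_of_mem (ha.2 2).symm (c _ m0 _ s2)
  have s1 : s 1 ∈ K := Set.mem_of_eq_of_mem (ha.2 0).symm (c _ m0 _ s0)
  have hQ : Q ≤ K := V.gen ▸ genL_le fun i hi => by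
    have := List.mem_range.1 hi
    interval_cases i
    exacts [s0, s1, s2, m6, m4, m5]
  obtain ⟨σ, h1, h2⟩ := (V.exists_pm L h32 hc).1 h (memC.1 hh)
  obtain ⟨w, -, rfl⟩ := a5_words σ h1
  have A := (Act.ev (g := scons a <| scons x fun _ => e) (p := scons pa <| scons px fun _ => pe)
    (fun i => by rcases i with _ | _ | i; exacts [ha, hx, he]) w).inv
  have m : ev (scons a <| scons x fun _ => e) w ∈ K := ev_mem _ _ fun i _ => by
    rcases i with _ | _ | i; exacts [m0, m2, m3]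
  have := hQ (V.mem_of_pm L h32 (A.1.mul_left (memC.1 hh)) fun i => by
    rw [cj_mul]
    rcases h2 i with e | e <;> rw [e]
    · exact .inl (by rw [A.2, pinv])
    · exact .inr (by rw [map_mul, A.2, pinv, cj_eq.2 A.1.eq]))
  simpa using mul_mem m this

end Five

theorem struct (L : LE Q z) (h32 : Nat.card Q = 32) (hc : Nat.card (centralizer ({z} : Set G)) = 1920) :
    ∃ a x e s t, Loc a x e s z t ∨ Loc1 a x e s z t := by
  obtain ⟨s, V⟩ := exists_five L h32 (by rw [hc]; decide)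
  obtain ⟨a, ha⟩ := V.lift L h32 hc (σ := pa) (by decide +kernel) (by decide +kernel)
  obtain ⟨x, hx⟩ := V.lift L h32 hc (σ := px) (by decide +kernel) (by decide +kernel)
  obtain ⟨e, he⟩ := V.lift L h32 hc (σ := pe) (by decide +kernel) (by decide +kernel)
  obtain ⟨a, ha, aaa⟩ := V.cube L ha .one (by decide +kernel)
  obtain ⟨x, hx, ax⟩ := V.cube L hx ha (by decide +kernel)
  obtain ⟨e, he, xe⟩ := V.cube L he hx (by decide +kernel)
  have xx : PM z (x * x) 1 := V.two L ((hx.mul hx).congr (by decide +kernel)) .one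
  have ee : e * e = x * x := by
    rw [V.sq_eq L he ((((hx.mul he).mul hx).mul (hx.mul he).inv).congr (by decide +kernel)), conj_mul]
    rcases xx with h | h <;> rw [h]
    · simp
    · rw [one_mul]; exact cj_eq.2 (hx.mul he).1.eq
  have ae : a * e * (a * e) = x * x := by
    rw [V.sq_eq L (ha.mul he) (((ha.inv.mul he).mul ha.inv.inv).congr (by decide +kernel)), conj_mul, ee]
    rcases xx with h | h <;> rw [h]
    · simp
    · rw [one_mul]; exact cj_eq.2 ha.inv.1.eq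
  have K : ∀ {g : G} {u v : G}, κ g u = v → v * v = 1 → 1 * g * u * g⁻¹ * v = 1 := fun h1 h2 => by
    rw [one_mul, ← MulAut.conj_apply, h1, h2]
  have Z : ∀ {g : G}, Commute g z → 1 * z * g * z * g⁻¹ = 1 := fun h1 => by
    rw [one_mul, ← h1.eq, mul_assoc _ z z, L.zz, mul_one, mul_inv_cancel]
  have S : ∀ i, 1 * s i * s i = 1 := fun i => by rw [one_mul, V.sq]
  have c0 : 1 * a * a * a = 1 := by simpa using aaa
  have c1 := K (ha.2 4) (V.sq 4)
  have c2 := K (hx.2 4) (V.sq 4)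
  have c3 := K (he.2 4) (V.sq 3)
  have c4 : 1 * z * s 4 * s 3 * s 4 * s 3 = 1 := by
    rw [one_mul, mul_assoc z, mul_assoc z, V.ac' L.toES (by decide), (L.zc _ (V.mem 3)).eq, ← mul_assoc, L.zz, one_mul,
      V.sq]
  have c5 := Z ha.1
  have c6 := Z hx.1
  have c7 := Z he.1
  have c8 := Z (L.zc _ (V.mem 4))
  have c9 := Z (L.zc _ (V.mem 3))
  rw [inv_of_sq (V.sq _)] at c8 c9
  have c10 := K (ha.2 3) (V.sq 3)
  have c11 : 1 * a * x * s 3 * x⁻¹ * a * x * s 3 * x⁻¹ * a⁻¹ * a⁻¹ * x * s 3 * x⁻¹ * s 3 * s 4 = 1 := by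
    refine Eq.trans ?_ V.prod
    rw [show s 1 = κ a (s 0) from (ha.2 0).symm, show s 0 = κ a (s 2) from (ha.2 2).symm,
      show s 2 = κ x (s 3) from (hx.2 3).symm]
    simp [mul_assoc]
  have c12 : 1 * a * x * a * x * a * x = 1 := by simpa only [one_mul, mul_assoc] using ax
  have c13 : 1 * x * e * x * e * x * e = 1 := by simpa only [one_mul, mul_assoc] using xe
  have zz : 1 * z * z = 1 := by rw [one_mul, L.zz]
  have i1 : ∀ g : G, 1 * g * g⁻¹ = 1 := fun g => by simp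
  have i2 : ∀ g : G, 1 * g⁻¹ * g = 1 := fun g => by simp
  have s4 := L.zc _ (V.mem 4)
  have s3 := L.zc _ (V.mem 3)
  refine ⟨a, x, e, s 4, s 3, xx.imp (fun h => ⟨?_, le_antisymm (genL_le fun i hi => memC.2 ?_) (V.gen_le L h32 hc ha hx he
    (mem_genL _ (x := 0) (by decide)) (mem_genL _ (x := 2) (by decide)) (mem_genL _ (x := 3) (by decide))
    (mem_genL _ (x := 4) (by decide)) (mem_genL _ (x := 5) (by decide)) (mem_genL _ (x := 6) (by decide))), hc⟩)
    fun h => ⟨?_, le_antisymm (genL_le fun i hi => memC.2 ?_) (V.gen_le L h32 hc ha hx he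
    (mem_genL _ (x := 0) (by decide)) (mem_genL _ (x := 2) (by decide)) (mem_genL _ (x := 3) (by decide))
    (mem_genL _ (x := 4) (by decide)) (mem_genL _ (x := 5) (by decide)) (mem_genL _ (x := 6) (by decide))), hc⟩⟩
  · rw [h] at ee ae
    rw [inv_of_sq h] at c2 c6 c11
    rw [inv_of_sq ee] at c3 c7
    simp only [JHJ0.rels, List.forall_mem_cons]
    exact ⟨rfl, i1 a, i2 a, (congrArg (· * x) (one_mul x)).trans h, (congrArg (· * e) (one_mul e)).trans ee, S 4, zz, S 3,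
      c0, c12, (by simp only [one_mul, mul_assoc] : 1 * a * e * a * e = a * e * (a * e)).trans ae, c13, c1, c2, c3, c4,
      c5, c6, c7, c8, c9, c10, c11, by simp⟩
  · have := List.mem_range.1 hi
    interval_cases i
    exacts [ha.1, ha.inv.1, hx.1, he.1, s4, rfl, s3]
  · rw [one_mul] at h
    rw [h] at ee ae
    simp only [JHJ1.rels, List.forall_mem_cons]
    exact ⟨rfl, i1 a, i2 a, i1 x, i2 x, i1 e, i2 e, S 4, zz, S 3, c0,
      (by rw [one_mul, h, L.zz] : 1 * x * x * z = 1), (by rw [one_mul, ee, L.zz] : 1 * e * e * z = 1), c12,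
      (by rw [one_mul, mul_assoc (a * e), ae, L.zz] : 1 * a * e * a * e * z = 1), c13, c1, c2, c3, c4,
      c5, c6, c7, c8, c9, c10, c11, by simp⟩
  · have := List.mem_range.1 hi
    interval_cases i
    exacts [ha.1, ha.inv.1, hx.1, he.1, s4, rfl, s3, hx.inv.1, he.inv.1]

theorem conj_back {g u : G} (hg : κ g z = u) (hu : u * z = z * u) : κ g⁻¹ z ∈ centralizer {z} := memC.2 (by
  have := (cj_comm (g := g⁻¹)).2 hu.symm
  rwa [cj_inv hg] at this)

open F in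
theorem Loc1.not_conj {a x e s t u : G} (L : Loc1 a x e s z t) (hu : u ∈ centralizer {z}) (hne : u ≠ z) :
    ¬ IsConj z u := fun hc => by
  obtain ⟨f, R, C⟩ := T1.exists_reg (g := lets1 a x e s z t)
    (fun i hi => by obtain ⟨k, rfl⟩ := Nat.exists_eq_add_of_le' hi; rfl) L.rels (by rw [L.cen, L.card])
  rw [L.cen] at R
  obtain ⟨zz, z1, sz, cl⟩ : z * z = 1 ∧ z ≠ 1 ∧ s * z = z * s ∧
      ∀ h ∈ centralizer {z}, h * h = 1 → h = 1 ∨ h = z ∨ ∃ k ∈ centralizer {z}, k * s = h * k :=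
    R.sound C ((F.z * F.z ≐ 1) ⋏ ne F.z 1 ⋏ cm F.s F.z ⋏
      .all ((F.u * F.u ≐ 1) ⟹ (F.u ≐ 1) ⋎ (F.u ≐ F.z) ⋎ .ex (F.u * F.s ≐ v * F.u))) (by decide +kernel)
  have n1 : {h | h ∈ centralizer {z} ∧ h * s = s * h ∧ h * h = z}.ncard = 36 :=
    (R.ncard C (cm F.u F.s ⋏ (F.u * F.u ≐ F.z))).trans (by decide +kernel)
  have n2 : {h | h ∈ centralizer {z} ∧ h * s = s * h ∧ h * h = s}.ncard = 12 :=
    (R.ncard C (cm F.u F.s ⋏ (F.u * F.u ≐ F.s))).trans (by decide +kernel)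
  have cs : ∀ g, κ g z ∈ centralizer {z} → κ g z ≠ z → ∃ k ∈ centralizer {z}, κ k s = κ g z := fun g h1 h2 => by
    rcases cl _ h1 (by rw [← map_mul, zz, map_one]) with h | h | ⟨k, hk, h⟩
    exacts [absurd (cj_one.1 h) z1, absurd h h2, ⟨k, hk, cj_eq.2 h⟩]
  obtain ⟨g, rfl⟩ := isConj_iff.1 hc
  obtain ⟨k, hk, h⟩ := cs g hu hne
  have e1 : κ (k⁻¹ * g) z = s := (cj_mul _ _ _).trans (cj_inv h)
  obtain ⟨k', hk', h'⟩ := cs _ (conj_back e1 sz) fun e => hne (by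
    have : s = z := e1.symm.trans (by have := cj_inv e; rwa [inv_inv] at this)
    rw [this, cj_eq.2 (memC.1 hk)] at h; exact h.symm)
  have e2 : κ (k⁻¹ * g * k') z = s := by rw [cj_mul, cj_eq.2 (memC.1 hk'), e1]
  have e3 : κ (k⁻¹ * g * k') s = z := by rw [cj_mul, h', ← cj_mul, mul_inv_cancel, map_one]; rfl
  have := Set.ncard_congr (s := {h | h ∈ centralizer {z} ∧ h * s = s * h ∧ h * h = z})
    (t := {h | h ∈ centralizer {z} ∧ h * s = s * h ∧ h * h = s}) (fun h _ => κ (k⁻¹ * g * k') h)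
    (fun h hh => ⟨memC.2 (by rw [← e3]; exact cj_comm.2 hh.2.1), by rw [← e2]; exact cj_comm.2 (memC.1 hh.1),
      by rw [← map_mul, hh.2.2, e2]⟩) (fun _ _ _ _ => cj_inj.1) fun h hh =>
    ⟨κ (k⁻¹ * g * k')⁻¹ h, ⟨memC.2 (by rw [← cj_inv e2]; exact cj_comm.2 hh.2.1),
      by rw [← cj_inv e3]; exact cj_comm.2 (memC.1 hh.1), by rw [← map_mul, hh.2.2, cj_inv e2]⟩,
      by rw [← cj_mul, mul_inv_cancel, map_one]; rfl⟩
  omega

theorem Loc.conj_s {a x e s t u : G} (L : Loc a x e s z t) (hu : u ∈ centralizer {z}) (hne : u ≠ z) (hc : IsConj z u) :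
    IsConj z s := by
  by_contra hs
  have ic : ∀ g p : G, IsConj p (κ g p) := fun g p => isConj_iff.2 ⟨g, rfl⟩
  have cs : ∀ g, κ g z ∈ centralizer {z} → κ g z ≠ z → ∃ k ∈ centralizer {z}, κ k x = κ g z := fun g h1 h2 => by
    rcases L.cl _ h1 (by rw [← map_mul, L.zz, map_one]) with h | h | ⟨k, hk, h⟩ | ⟨k, -, h⟩
    exacts [absurd (cj_one.1 h) L.z1, absurd h h2, ⟨k, hk, cj_eq.2 h⟩,
      absurd ((ic g z).trans (cj_eq.2 h ▸ ic k s).symm) hs]
  obtain ⟨g, rfl⟩ := isConj_iff.1 hc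
  obtain ⟨k, hk, h⟩ := cs g hu hne
  have e1 : κ (k⁻¹ * g) z = x := (cj_mul _ _ _).trans (cj_inv h)
  obtain ⟨k', hk', h'⟩ := cs _ (conj_back e1 L.xz.eq) fun e =>
    L.xz' ((cj_inv e).symm.trans (by rw [inv_inv]; exact e1)).symm
  have e2 : κ (k⁻¹ * g * k') z = x := by rw [cj_mul, cj_eq.2 (memC.1 hk'), e1]
  have e3 : κ (k⁻¹ * g * k') x = z := by rw [cj_mul, h', ← cj_mul, mul_inv_cancel, map_one]; rfl
  generalize k⁻¹ * g * k' = y at e2 e3
  have P : ∀ v, Commute v z → Commute v x → IsConj s v → κ y v = s ∨ κ y v = z * s := fun v h1 h2 h3 => by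
    rcases (L.cx (κ y v) (memC.2 (by rw [← e3]; exact cj_comm.2 h2)) (by rw [← e2]; exact cj_comm.2 h1)).2.2 with
      (h | h | h) | ⟨k, -, h⟩
    · rw [cj_one.1 h, isConj_one_left] at h3; exact absurd h3 L.s1
    · exact absurd (h3.trans (h ▸ ic y v)).symm hs
    · exact h
    · exact absurd (((e2 ▸ ic y z).trans (cj_eq.2 h ▸ ic k x)).trans (h3.trans (ic y v)).symm) hs
  have q : κ y (z * s) = x * κ y s := by rw [map_mul, e2]
  rcases P s L.sz L.xs.symm (.refl s) with h1 | h1 <;>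
    rcases P (z * s) ((Commute.refl z).mul_left L.sz) (L.xz.mul_right L.xs).symm (L.kts ▸ ic t s) with h2 | h2 <;>
    rw [h1, h2] at q
  · exact L.x1 (by simpa using q)
  · exact L.xz' (mul_right_cancel q).symm
  · exact L.xz' (by rw [← mul_assoc, eq_comm, mul_eq_right, mul_eq_one_iff_eq_inv, inv_of_sq L.zz] at q; exact q)
  · exact L.x1 (by simpa using q)

end Cfsg.Agent.HJ
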