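import Cfsg.Agent.HJ.Top
import Cfsg.Agent.HJ.Struct
import Cfsg.Agent.Classical.LowIso
import Cfsg.Agent.S1265

/-! Groups with an involution centraliser `2^{1+4}.A5` (helper24): `master` (`J2` or `J3`), `hj_type` (Hall-Janko type),
`simple_case` (simple groups, no 2-constraint assumed). -/

set_option autoImplicit false
set_option maxRecDepth 100000

namespace Cfsg.Agent.HJ

open Cfsg.Agent.Spor Subgroup Cfsg.Agent.LES Equiv

open Cfsg.Agent.Classical Cfsg.Agent.Geom Cfsg.Agent.Geom.Formed in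
theorem card_omega : Nat.card (Omega (ZMod 2) (quadFormMinus 1 (ZMod 2) 1 1)) = 60 := by
  have hab : ∀ z₁ z₂ : ZMod 2, z₁ ^ 2 + 1 * z₁ * z₂ + 1 * z₂ ^ 2 = 0 → z₁ = 0 ∧ z₂ = 0 := by decide
  have hn := quadMinus_nondeg (ZMod 2) 1 (disc_ne_zero_of_anisotropic hab)
  have hw := quadMinus_wittIndex (ZMod 2) 1 hab
  have h1 := (commutator (OG (quadMinus (ZMod 2) 1 1 1))).index_mul_card
  rw [index_commutator_even hn (.inr (.inr fun h => by have := h.unique hw; omega)) rfl (by simp),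
    card_isom_minus 1 hn hw (by simp), Nat.card_zmod] at h1
  rw [← coe_quadMinus, Nat.card_congr (omegaEquiv _).toEquiv]
  norm_num at h1 ⊢
  omega

theorem card_a5 : Nat.card (alternatingGroup (Fin 5)) = 60 := by rw [nat_card_alternatingGroup, Nat.card_fin]; rfl

theorem a5_center : ∀ σ : Perm (Fin 5), pa * σ = σ * pa → pe * σ = σ * pe → px * σ = σ * px → σ = 1 := by
  decide +kernel

variable {G : Type*} [Group G] [Finite G] {z : G}

/-- The two possible conclusions. -/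
def Out (G : Type*) [Group G] (z : G) : Prop := (Cfsg.Spor.IsoJ2 G ∧ ∃ x, orderOf x = 2 ∧ ¬ IsConj z x) ∨
  (Cfsg.Spor.IsoJ3 G ∧ Nat.card G = 50232960 ∧ ∀ u v : G, orderOf u = 2 → orderOf v = 2 → IsConj u v)

theorem master {Q : Subgroup G} (L : LE Q z) (h32 : Nat.card Q = 32)
    (hc : Nat.card (centralizer ({z} : Set G)) = 1920) {u : G} (hu : u ∈ centralizer {z}) (hne : u ≠ z)
    (hcj : IsConj z u) : Out G z := by
  obtain ⟨a, x, e, s, t, M | M⟩ := struct L h32 hc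
  · exact (M.main (M.conj_s hu hne hcj)).imp_left fun h => ⟨h.1, x, Invol.orderOf_two_iff.2 ⟨M.xx, M.x1⟩, h.2⟩
  · exact absurd hcj (M.not_conj hu hne)

omit [Finite G] in
theorem card_cent (Q : Subgroup (centralizer ({z} : Set G))) [Q.Normal] (h32 : Nat.card Q = 32) {A : Type*} [Group A]
    (e : centralizer ({z} : Set G) ⧸ Q ≃* A) (hA : Nat.card A = 60) : Nat.card (centralizer ({z} : Set G)) = 1920 := by
  rw [card_eq_card_quotient_mul_card_subgroup Q, Nat.card_congr e.toEquiv, hA, h32]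

theorem master' (hz : orderOf z = 2) (Q : Subgroup (centralizer ({z} : Set G))) [hN : Q.Normal]
    (hQ : IsExtraspecial 2 Q) (h32 : Nat.card Q = 32) (h2c : centralizer (Q : Set (centralizer ({z} : Set G))) ≤ Q)
    (hc : Nat.card (centralizer ({z} : Set G)) = 1920) {u : G} (hu : u ∈ centralizer {z}) (hne : u ≠ z)
    (hcj : IsConj z u) : Out G z := by
  have i := subtype_injective (centralizer ({z} : Set G))
  have m : ∀ x (hx : x ∈ centralizer {z}), (∀ y ∈ Q.map (centralizer {z}).subtype, Commute x y) →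
      x ∈ Q.map (centralizer {z}).subtype := fun x hx h =>
    ⟨⟨x, hx⟩, h2c fun y hy => Subtype.ext (h y ⟨y, hy, rfl⟩).symm.eq, rfl⟩
  have hz' := m z (memC.2 rfl) fun y hy => (memC.1 (map_subtype_le Q hy)).symm
  have E := ES.of_mem (PGrp.ES_of_mulEquiv hQ (Q.equivMapOfInjective _ i)) hz' (Invol.ne_one_of hz) (map_subtype_le Q)
  refine master ⟨E, fun x hx => E.cen x (m x (memC.2 (hx z hz')) hx) hx, fun x hx => ?_⟩
    (by rw [card_map_of_injective i, h32]) hc hu hne hcj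
  exact mem_normalizer_fintype fun _ ⟨y, hy, e⟩ => e ▸ ⟨_, hN.conj_mem y hy ⟨x, memC.2 hx⟩, rfl⟩

theorem hj_type (hz : orderOf z = 2) (Q : Subgroup (centralizer ({z} : Set G))) [Q.Normal]
    (hF : generalizedFittingSubgroup (centralizer ({z} : Set G)) = Q) (hQ : IsExtraspecial 2 Q)
    (hcard : Nat.card Q = 2 ^ 5) (e : centralizer ({z} : Set G) ⧸ Q ≃* Omega (ZMod 2) (quadFormMinus 1 (ZMod 2) 1 1))
    (hnwc : ∃ g : G, (∃ hq : g * z * g⁻¹ ∈ centralizer ({z} : Set G),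
      (⟨g * z * g⁻¹, hq⟩ : centralizer ({z} : Set G)) ∈ Q) ∧ g * z * g⁻¹ ≠ z)
    (hcl : ∃ x y : G, orderOf x = 2 ∧ orderOf y = 2 ∧ ¬ IsConj x y) :
    Cfsg.Spor.IsoJ2 G ∧ Nat.card (centralizer ({z} : Set G)) = 1920 := by
  obtain ⟨g, ⟨hq, -⟩, hne⟩ := hnwc
  obtain ⟨x, y, hx, hy, hxy⟩ := hcl
  have hc := card_cent Q hcard e card_omega
  rcases master' hz Q hQ hcard (hF ▸ S1265.result) hc hq hne (isConj_cj g z) with h | h
  exacts [⟨h.1, hc⟩, absurd (h.2.2 x y hx hy) hxy]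

theorem exists_conj [IsSimpleGroup G] (hz : orderOf z = 2) (hc : Nat.card (centralizer ({z} : Set G)) = 1920) :
    ∃ g, κ g z ∈ centralizer {z} ∧ κ g z ≠ z := by
  by_contra! h
  have hO := SE.oddCore_simple (G := G) (even_iff_two_dvd.2 (hz ▸ orderOf_dvd_natCard z))
  have c : ∀ g, Commute g z := fun g => by
    obtain ⟨o, ho, c, hc, rfl⟩ := Invol.Isolated.factor ⟨hz, fun g hg => h g (memC.2 hg.symm)⟩ g
    rw [hO, mem_bot] at ho
    rwa [ho, one_mul]
  have : (zpowers z).Normal := ⟨fun n hn g => by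
    obtain ⟨k, rfl⟩ := mem_zpowers_iff.1 hn
    rwa [((c g).zpow_right k).eq, mul_inv_cancel_right]⟩
  rcases this.eq_bot_or_eq_top with e | e
  · exact Invol.ne_one_of hz (zpowers_eq_bot.1 e)
  · have := card_le_of_le (le_top.trans e.ge : centralizer {z} ≤ zpowers z)
    rw [hc, Nat.card_zpowers, hz] at this
    omega

theorem comm_of_central {C : Type*} [Group C] [Finite C] {E : Subgroup C} [E.Normal] {z : C} (h : ES E z)
    (hz : ∀ g, Commute g z) (φ : C →* alternatingGroup (Fin 5)) (hk : φ.ker = E)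
    (hK : (centralizer (E : Set C)).map φ = ⊤) :
    (∀ p, ∃ k ∈ centralizer (E : Set C), p * k⁻¹ ∈ E) ∧ ∀ p q : C, p * p * (p * p) = 1 → q * q * (q * q) = 1 →
      p * q * (p * q) * (p * q * (p * q)) = 1 → PM z (p * q) (q * p) := by
  have D : ∀ p, ∃ k ∈ centralizer (E : Set C), p * k⁻¹ ∈ E := fun p => by
    obtain ⟨k, h1, h2⟩ : φ p ∈ (centralizer (E : Set C)).map φ := hK ▸ mem_top _
    exact ⟨k, h1, by rw [← hk, MonoidHom.mem_ker, map_mul, map_inv, h2, mul_inv_cancel]⟩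
  refine ⟨D, fun p q hp hq hpq => ?_⟩
  have s : ∀ g : C, g * g * (g * g) = 1 → φ g * φ g = 1 := fun g hg => Subtype.ext
    (s5_ord (φ g).1 (Perm.mem_alternatingGroup.1 (φ g).2) (by simpa using congrArg (fun u => (φ u).1) hg))
  have c := Invol.commute_of_mul_sq (s p hp) (s q hq) (by simpa using s _ hpq)
  obtain ⟨k, k1, k2⟩ := D p
  obtain ⟨l, l1, l2⟩ := D q
  obtain ⟨a, rfl⟩ : ∃ a, p = a * k := ⟨p * k⁻¹, by simp⟩
  obtain ⟨b, rfl⟩ : ∃ b, q = b * l := ⟨q * l⁻¹, by simp⟩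
  rw [mul_inv_cancel_right] at k2 l2
  have ea : φ a = 1 := by rw [← MonoidHom.mem_ker, hk]; exact k2
  have eb : φ b = 1 := by rw [← MonoidHom.mem_ker, hk]; exact l2
  rw [map_mul, map_mul, ea, eb, one_mul, one_mul] at c
  have m := mul_mem (mul_mem k1 l1) (inv_mem (mul_mem l1 k1))
  have c1 := h.cen (k * l * (l * k)⁻¹) (by rw [← hk, MonoidHom.mem_ker, map_mul, map_inv, map_mul, map_mul, c.eq]; simp)
    fun y hy => (m y hy).symm
  have e1 : a * k * (b * l) = a * b * (k * l) := by rw [mul_assoc, ← mul_assoc k, ← k1 b l2]; simp only [mul_assoc]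
  have e2 : b * l * (a * k) = b * a * (l * k) := by rw [mul_assoc, ← mul_assoc l, ← l1 a k2]; simp only [mul_assoc]
  rw [e1, e2]
  rw [mul_inv_eq_one, mul_inv_eq_iff_eq_mul, ← (hz _).eq] at c1
  have c2 := h.comm a k2 b l2
  rw [mul_inv_eq_iff_eq_mul, mul_inv_eq_iff_eq_mul, mul_assoc, ← (hz _).eq, ← mul_assoc] at c2
  rcases c1 with c1 | c1 <;> rcases c2 with c2 | c2 <;> rw [c1, c2]
  · exact .inl rfl
  · exact .inr (by rw [mul_assoc, ← (hz _).eq, ← mul_assoc])
  · exact .inr (by rw [← mul_assoc])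
  · exact .inl (by rw [mul_assoc, ← (hz _).eq, mul_assoc (l * k), h.zz, mul_one])

theorem simple_case [IsSimpleGroup G] (hz : orderOf z = 2) (E : Subgroup (centralizer ({z} : Set G))) [E.Normal]
    (hE : Nat.card E = 32) (hX : IsExtraspecial 2 E) (e : centralizer ({z} : Set G) ⧸ E ≃* alternatingGroup (Fin 5)) :
    Out G z := by
  have hc := card_cent E hE e card_a5
  obtain ⟨g, hu, hne⟩ := exists_conj hz hc
  refine master' hz E hX hE ?_ hc hu hne (isConj_cj g z)
  let φ := e.toMonoidHom.comp (QuotientGroup.mk' E)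
  have hs : Function.Surjective φ := e.surjective.comp (QuotientGroup.mk'_surjective E)
  have hk : φ.ker = E := Subgroup.ext fun y => e.map_eq_one_iff.trans (QuotientGroup.eq_one_iff y)
  rcases ((inferInstance : (centralizer (E : Set (centralizer ({z} : Set G)))).Normal).map φ hs).eq_bot_or_eq_top
    with h | h
  · exact ((Subgroup.map_eq_bot_iff _).1 h).trans hk.le
  exfalso
  let z' : centralizer ({z} : Set G) := ⟨z, memC.2 rfl⟩
  have zc : ∀ y, Commute y z' := fun y => Subtype.ext (memC.1 y.2)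
  have c : ∀ σ, Perm.sign σ = 1 → σ * (φ z').1 = (φ z').1 * σ := fun σ hσ => by
    obtain ⟨y, hy⟩ := hs ⟨σ, Perm.mem_alternatingGroup.2 hσ⟩
    simpa [hy] using congrArg (fun u => (φ u).1) (zc y).eq
  have S := ES.of_mem hX (z := z') (by
    rw [← hk]
    exact Subtype.ext (a5_center _ (c _ (by decide +kernel)) (c _ (by decide +kernel)) (c _ (by decide +kernel))))
    (fun e => Invol.ne_one_of hz (congrArg Subtype.val e)) fun y _ => memC.2 (zc y)
  obtain ⟨D, P⟩ := comm_of_central S zc φ hk h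
  obtain ⟨k, k1, k2⟩ := D ⟨_, hu⟩
  obtain ⟨a, ha, b, hb, c1, c2, c3⟩ := S.nab_cent (by omega) k2
  have m : ∀ y ∈ E, Commute y (⟨_, hu⟩ * k⁻¹) → κ g⁻¹ (y : G) ∈ centralizer {z} := fun y hy h => memC.2 (by
    have : Commute y ⟨_, hu⟩ := by simpa using h.mul_right (k1 y hy)
    have := (cj_comm (g := g⁻¹)).2 (congrArg Subtype.val this.eq)
    rwa [cj_inv rfl] at this)
  have f : ∀ y ∈ E, κ g⁻¹ (y : G) * κ g⁻¹ (y : G) * (κ g⁻¹ (y : G) * κ g⁻¹ (y : G)) = 1 := fun y hy => by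
    have : y * y * (y * y) = 1 := by rcases S.sq y hy with e | e <;> rw [e]; exacts [one_mul _, S.zz]
    simp only [← map_mul, ← coe_mul, this, coe_one, map_one]
  have c4 := congrArg Subtype.val (mul_inv_eq_iff_eq_mul.1 (S.conj_of_not ha hb c3))
  rw [mul_assoc, ← (zc a).eq, ← mul_assoc] at c4
  rcases P ⟨_, m a ha c1⟩ ⟨_, m b hb c2⟩ (Subtype.ext (f a ha)) (Subtype.ext (f b hb))
    (Subtype.ext (by simpa only [coe_mul, map_mul, coe_one] using f _ (mul_mem ha hb))) with h | h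
  · exact c3 (Subtype.ext (cj_comm.1 (congrArg Subtype.val h)))
  · have := congrArg (fun u => κ g u.1) h
    simp only [coe_mul, map_mul, ← cj_mul, mul_inv_cancel, map_one, MulAut.one_apply] at this
    exact hne (mul_left_cancel (this.symm.trans c4))

theorem Out.j2 (h : Out G z) (hcl : ∃ x y : G, orderOf x = 2 ∧ orderOf y = 2 ∧ ¬ IsConj x y) : Cfsg.Spor.IsoJ2 G :=
  let ⟨x, y, hx, hy, hxy⟩ := hcl
  h.elim (·.1) fun h => absurd (h.2.2 x y hx hy) hxy

theorem Out.j3 (h : Out G z) (hz : orderOf z = 2) (hone : ∀ x y : G, orderOf x = 2 → orderOf y = 2 → IsConj x y) :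
    Cfsg.Spor.IsoJ3 G ∧ Nat.card G = 50232960 :=
  h.elim (fun ⟨_, x, hx, h⟩ => absurd (hone z x hz hx) h) fun h => ⟨h.1, h.2.1⟩

omit [Finite G] in
theorem card_j2 (h : Cfsg.Spor.IsoJ2 G) : Nat.card G = 604800 := (Nat.card_congr h.some.toEquiv).trans Ico.card_J2

end Cfsg.Agent.HJ
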