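import Cfsg.Agent.Known.NetTab
import Cfsg.Agent.Comp.Word

/-! Regular representations of small subgroups (helper24): `Reg H N mu f` (the numbers below `N` code the elements of
`H`, `mu` multiplies codes), `exists_reg` (from a coset enumeration over the trivial subgroup), a reflection language
`Tm`, `Fm` with `Fm.sound` (first-order statements about `H` by `decide +kernel`) and `Reg.ncard`. -/

set_option autoImplicit false

namespace Cfsg.Agent.HJ

open Cfsg.Agent.Comp Cfsg.Agent.Known Cfsg.Agent.Spor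

variable {G : Type*} [Group G]

/-- The numbers below `N` code the elements of `H`. -/
structure Reg (H : Subgroup G) (N : ℕ) (mu : ℕ → ℕ → ℕ) (f : ℕ → G) : Prop where
  pos : 0 < N
  one : f 0 = 1
  mul : ∀ c < N, ∀ d < N, mu c d < N ∧ f (mu c d) = f c * f d
  mem : ∀ c < N, f c ∈ H
  surj : ∀ h ∈ H, ∃ c < N, f c = h
  inj : ∀ c < N, ∀ d < N, f c = f d → c = d

/-- Run the packed word `w` (digits in base 16, lowest first, letter `x` is the digit `x + 1`). -/
def runW (T : ℕ → ℕ → ℕ) (fuel : ℕ) : ℕ → ℕ → ℕ :=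
  Nat.rec (motive := fun _ => ℕ → ℕ → ℕ) (fun _ d => d)
    (fun _ ih w d => Nat.rec (motive := fun _ => ℕ) d
      (fun x _ => force (T x d) fun d' => force (Nat.shiftRight w 4) fun w' => ih w' d') (Nat.land w 15)) fuel

theorem runW_spec {T : ℕ → ℕ → ℕ} {N : ℕ} {f y : ℕ → G} {H : Subgroup G} (hy : ∀ x, y x ∈ H)
    (h : ∀ x, ∀ c < N, T x c < N ∧ f (T x c) = y x * f c) (fuel : ℕ) :
    ∀ w, ∃ a ∈ H, ∀ d < N, runW T fuel w d < N ∧ f (runW T fuel w d) = a * f d := by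
  induction fuel with
  | zero => exact fun w => ⟨1, H.one_mem, fun d hd => ⟨hd, (one_mul _).symm⟩⟩
  | succ n ih =>
    intro w
    rcases e : Nat.land w 15 with _ | x
    · exact ⟨1, H.one_mem, fun d hd => by
        have : runW T (n + 1) w d = d := by simp only [runW, e]; rfl
        rw [this]; exact ⟨hd, (one_mul _).symm⟩⟩
    · obtain ⟨a, ha, k⟩ := ih (Nat.shiftRight w 4)
      refine ⟨a * y x, H.mul_mem ha (hy x), fun d hd => ?_⟩
      have : runW T (n + 1) w d = runW T n (Nat.shiftRight w 4) (T x d) := by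
        simp only [runW, e, force_eq]
      rw [this, mul_assoc, ← (h x d hd).2]
      exact k _ (h x d hd).1

/-- The tables. -/
def tbl (w : ℕ) (tabs : List ℕ) (x : ℕ) : ℕ → ℕ := get2 w (nthL (nthL 0 tabs 0) tabs x)

/-- The multiplication of codes. -/
def muW (w : ℕ) (tabs : List ℕ) (v ws fuel c d : ℕ) : ℕ := force (get2 v ws c) fun u => runW (tbl w tabs) fuel u d

theorem exists_reg [Finite G] {g : ℕ → G} {nets : List Net} {N nl K : ℕ} {rels : List (List ℕ)}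
    (ok : netsOk N nets = true) (hg : ∀ r ∈ rels, ev g r = 1) (hi : chkInv rels (List.range nl) = true)
    (hf : chkFin nets N 0 (List.range nl) 0 N K = true) (est : ESt g nets N (1 : G) 0 K) {w : ℕ} {tabs : List ℕ}
    (hl : tabs.length = nl) (h0 : 0 < nl) (hT : ∀ x < nl, TabOf N w (nthL (nthL 0 tabs 0) tabs x) (ev (PP nets) [x])⁻¹)
    {v ws fuel : ℕ} (hw : allLt N (fun c => Nat.beq (muW w tabs v ws fuel c 0) c) = true)
    (hc : N ≤ Nat.card (genL g (List.range nl))) :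
    ∃ f, Reg (genL g (List.range nl)) N (muW w tabs v ws fuel) f ∧
      ∀ x < nl, ∀ c < N, tbl w tabs x c = 0 → f c = g x := by
  obtain ⟨⟨-, hN⟩, f, f0, k⟩ := fin_sound ok hf est
  rw [zero_add] at hN k
  have k1 : ∀ x < nl, ∀ c < N, tbl w tabs x c < N ∧ f (tbl w tabs x c) = (g x)⁻¹ * f c := fun x hx c hc => by
    obtain ⟨a, b⟩ := hT x hx c hc
    have := (k [x] (by simpa using hx) _ ⟨Nat.zero_le _, b⟩).2
    rw [← Equiv.Perm.mul_apply, mul_inv_cancel, Equiv.Perm.one_apply, smul_eq_mul] at this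
    rw [tbl, a, ← this]
    exact ⟨b, by simp⟩
  let y : ℕ → G := fun x => if x < nl then (g x)⁻¹ else (g 0)⁻¹
  have hy : ∀ x, y x ∈ genL g (List.range nl) := fun x => by
    simp only [y]; split_ifs with h
    exacts [inv_mem (mem_genL g (List.mem_range.2 h)), inv_mem (mem_genL g (List.mem_range.2 h0))]
  have k2 : ∀ x, ∀ c < N, tbl w tabs x c < N ∧ f (tbl w tabs x c) = y x * f c := fun x c hc => by
    simp only [y]; split_ifs with h
    · exact k1 x h c hc
    · have : tbl w tabs x = tbl w tabs 0 := by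
        rw [tbl, tbl, nthL_eq _ _ x, List.getD_eq_default _ _ (by omega), nthL_eq _ _ 0, nthL_eq _ _ 0,
          List.getD_eq_getElem _ _ (by omega), List.getD_eq_getElem _ _ (by omega)]
      rw [this]; exact k1 0 h0 c hc
  have k3 : ∀ c < N, f c ∈ genL g (List.range nl) ∧ ∀ d < N, muW w tabs v ws fuel c d < N ∧
      f (muW w tabs v ws fuel c d) = f c * f d := fun c hc => by
    obtain ⟨a, ha, e⟩ := runW_spec hy k2 fuel (get2 v ws c)
    have e1 := nbeq.1 (allLt_iff.1 hw c hc)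
    simp only [muW, force_eq] at e1 ⊢
    have e2 := (e 0 hN).2
    rw [e1, f0, mul_one] at e2
    rw [e2]; exact ⟨ha, e⟩
  have k4 : ∀ h ∈ genL g (List.range nl), ∃ c < N, f c = h := fun h hh => by
    obtain ⟨u, hu, rfl⟩ := exists_word_of_mem_genL hg hi hh
    obtain ⟨a, b⟩ := k u hu 0 ⟨le_rfl, hN⟩
    exact ⟨_, a.2, by rw [← b, f0, smul_eq_mul, mul_one]⟩
  refine ⟨f, ⟨hN, f0, fun c hc => (k3 c hc).2, fun c hc => (k3 c hc).1, k4, fun c hc' d hd e => ?_⟩,
    fun x hx c hc' e => ?_⟩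
  · let F : Fin N → genL g (List.range nl) := fun i => ⟨f i, (k3 i i.2).1⟩
    have hs : Function.Surjective F := fun h => let ⟨c, a, b⟩ := k4 h h.2; ⟨⟨c, a⟩, Subtype.ext b⟩
    have := (hs.bijective_of_nat_card_le (by simpa using hc)).1
    exact congrArg Fin.val (this (a₁ := ⟨c, hc'⟩) (a₂ := ⟨d, hd⟩) (Subtype.ext e))
  · have := (k1 x hx c hc').2
    rw [e, f0] at this
    exact (inv_mul_eq_one.1 this.symm).symm

/-- Terms. -/
inductive Tm : Type
  | g (i : ℕ) : Tm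
  | v (i : ℕ) : Tm
  | one : Tm
  | mul (a b : Tm) : Tm

instance instMulTm : Mul Tm := ⟨Tm.mul⟩
instance instOneTm : One Tm := ⟨Tm.one⟩

/-- Formulas; the quantifiers range over `H`. -/
inductive Fm : Type
  | eq (a b : Tm) : Fm
  | not (p : Fm) : Fm
  | and (p q : Fm) : Fm
  | or (p q : Fm) : Fm
  | imp (p q : Fm) : Fm
  | all (p : Fm) : Fm
  | ex (p : Fm) : Fm

/-- Extend an environment. -/
def scons {α : Type*} (a : α) (ρ : ℕ → α) (n : ℕ) : α := Nat.rec (motive := fun _ => α) a (fun m _ => ρ m) n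

/-- The value of a term. -/
noncomputable def Tm.val {α : Type*} (mu : α → α → α) (e : α) (g ρ : ℕ → α) (t : Tm) : α :=
  Tm.rec (motive := fun _ => α) g ρ e (fun _ _ a b => mu a b) t

/-- The code of a term. -/
noncomputable def Tm.code (mu : ℕ → ℕ → ℕ) (g ρ : ℕ → ℕ) (t : Tm) : ℕ :=
  Tm.rec (motive := fun _ => ℕ) g ρ 0 (fun _ _ a b => force a fun a => force b fun b => mu a b) t

/-- The meaning of a formula. -/
def Fm.sat (H : Subgroup G) (g : ℕ → G) (p : Fm) : (ℕ → G) → Prop :=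
  Fm.rec (motive := fun _ => (ℕ → G) → Prop) (fun a b ρ => a.val (· * ·) 1 g ρ = b.val (· * ·) 1 g ρ)
    (fun _ p ρ => ¬ p ρ) (fun _ _ p q ρ => p ρ ∧ q ρ) (fun _ _ p q ρ => p ρ ∨ q ρ) (fun _ _ p q ρ => p ρ → q ρ)
    (fun _ p ρ => ∀ h ∈ H, p (scons h ρ)) (fun _ p ρ => ∃ h ∈ H, p (scons h ρ)) p

/-- The decision procedure. -/
noncomputable def Fm.dec (N : ℕ) (mu : ℕ → ℕ → ℕ) (g : ℕ → ℕ) (p : Fm) : (ℕ → ℕ) → Bool :=
  Fm.rec (motive := fun _ => (ℕ → ℕ) → Bool) (fun a b ρ => Nat.beq (a.code mu g ρ) (b.code mu g ρ))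
    (fun _ p ρ => bif' (p ρ) false true) (fun _ _ p q ρ => band (p ρ) (q ρ)) (fun _ _ p q ρ => bor (p ρ) (q ρ))
    (fun _ _ p q ρ => bif' (p ρ) (q ρ) true) (fun _ p ρ => allLt N fun c => p (scons c ρ))
    (fun _ p ρ => anyLt N fun c => p (scons c ρ)) p

variable {H : Subgroup G} {N : ℕ} {mu : ℕ → ℕ → ℕ} {f g : ℕ → G} {gc : ℕ → ℕ}

/-- The environments correspond. -/
def Cor (N : ℕ) (f : ℕ → G) (ρ : ℕ → ℕ) (σ : ℕ → G) : Prop := ∀ i, ρ i < N ∧ f (ρ i) = σ i

theorem Cor.scons {ρ : ℕ → ℕ} {σ : ℕ → G} (h : Cor N f ρ σ) {c : ℕ} (hc : c < N) :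
    Cor N f (scons c ρ) (scons (f c) σ)
  | 0 => ⟨hc, rfl⟩
  | i + 1 => h i

theorem Reg.tm (R : Reg H N mu f) (hg : Cor N f gc g) {ρ : ℕ → ℕ} {σ : ℕ → G} (h : Cor N f ρ σ) (t : Tm) :
    t.code mu gc ρ < N ∧ f (t.code mu gc ρ) = t.val (· * ·) 1 g σ := by
  induction t with
  | g i => exact hg i
  | v i => exact h i
  | one => exact ⟨R.pos, R.one⟩
  | mul a b ha hb =>
    have := R.mul _ ha.1 _ hb.1
    rw [ha.2, hb.2] at this
    have e : (a.mul b).code mu gc ρ = mu (a.code mu gc ρ) (b.code mu gc ρ) := by simp only [Tm.code, force_eq]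
    rw [e]; exact this

theorem Reg.fm (R : Reg H N mu f) (hg : Cor N f gc g) (p : Fm) : ∀ {ρ : ℕ → ℕ} {σ : ℕ → G}, Cor N f ρ σ →
    (p.dec N mu gc ρ = true ↔ p.sat H g σ) := by
  induction p with
  | eq a b =>
    intro ρ σ h
    have ha := R.tm hg h a
    have hb := R.tm hg h b
    exact nbeq.trans ⟨fun e => ha.2.symm.trans (e ▸ hb.2), fun e => R.inj _ ha.1 _ hb.1 (ha.2.trans (e.trans hb.2.symm))⟩
  | not p ih =>
    intro ρ σ h
    change bif' (p.dec N mu gc ρ) false true = true ↔ ¬ p.sat H g σ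
    rw [← ih h]; cases p.dec N mu gc ρ <;> simp
  | and p q ih ih' =>
    intro ρ σ h
    change band (p.dec N mu gc ρ) (q.dec N mu gc ρ) = true ↔ p.sat H g σ ∧ q.sat H g σ
    rw [← ih h, ← ih' h, band_eq, Bool.and_eq_true]
  | or p q ih ih' =>
    intro ρ σ h
    change bor (p.dec N mu gc ρ) (q.dec N mu gc ρ) = true ↔ p.sat H g σ ∨ q.sat H g σ
    rw [← ih h, ← ih' h, bor_eq, Bool.or_eq_true]
  | imp p q ih ih' =>
    intro ρ σ h
    change bif' (p.dec N mu gc ρ) (q.dec N mu gc ρ) true = true ↔ (p.sat H g σ → q.sat H g σ)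
    rw [← ih h, ← ih' h]; cases p.dec N mu gc ρ <;> simp
  | all p ih =>
    intro ρ σ h
    change (allLt N fun c => p.dec N mu gc (scons c ρ)) = true ↔ ∀ k ∈ H, p.sat H g (scons k σ)
    rw [allLt_iff]
    exact ⟨fun e k hk => let ⟨c, a, b⟩ := R.surj k hk; b ▸ (ih (h.scons a)).1 (e c a),
      fun e c hc => (ih (h.scons hc)).2 (e _ (R.mem c hc))⟩
  | ex p ih =>
    intro ρ σ h
    change (anyLt N fun c => p.dec N mu gc (scons c ρ)) = true ↔ ∃ k ∈ H, p.sat H g (scons k σ)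
    rw [anyLt_iff]
    exact ⟨fun ⟨c, hc, e⟩ => ⟨_, R.mem c hc, (ih (h.scons hc)).1 e⟩,
      fun ⟨k, hk, e⟩ => let ⟨c, a, b⟩ := R.surj k hk; ⟨c, a, (ih (h.scons a)).2 (b ▸ e)⟩⟩

theorem Reg.cor0 (R : Reg H N mu f) : Cor N f (fun _ => 0) fun _ => 1 := fun _ => ⟨R.pos, R.one⟩

theorem Reg.sound (R : Reg H N mu f) (hg : Cor N f gc g) (p : Fm) (h : p.dec N mu gc (fun _ => 0) = true) :
    p.sat H g fun _ => 1 := (R.fm hg p R.cor0).1 h

theorem Reg.ncard (R : Reg H N mu f) (hg : Cor N f gc g) (p : Fm) :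
    {h | h ∈ H ∧ p.sat H g (scons h fun _ => 1)}.ncard = countLt N fun c => p.dec N mu gc (scons c fun _ => 0) := by
  rw [countLt_eq, ← Set.ncard_coe_finset]
  refine (Set.ncard_congr (fun c _ => f c) (fun c hc => ?_) (fun c d hc hd e => ?_) fun h hh => ?_).symm
  · simp only [Finset.coe_filter, Finset.mem_range, Set.mem_ofPred_eq] at hc
    exact ⟨R.mem c hc.1, (R.fm hg p (R.cor0.scons hc.1)).1 hc.2⟩
  · simp only [Finset.coe_filter, Finset.mem_range, Set.mem_ofPred_eq] at hc hd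
    exact R.inj c hc.1 d hd.1 e
  · obtain ⟨c, a, rfl⟩ := R.surj h hh.1
    exact ⟨c, by simpa using ⟨a, (R.fm hg p (R.cor0.scons a)).2 hh.2⟩, rfl⟩

end Cfsg.Agent.HJ
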