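import Cfsg.Agent.HJ.Reg
import Cfsg.Agent.Spor.J.HJq

/-! Multiplication table of `2^{1+4}` (generated certificate, helper24): `TQ.exists_reg`.
 -/

set_option autoImplicit false
set_option maxRecDepth 100000
set_option exponentiation.threshold 100000

namespace Cfsg.Agent.HJ

open Cfsg.Agent.Comp Cfsg.Agent.Known Cfsg.Agent.Spor

namespace TQ

noncomputable def t0 : ℕ := (nat_lit 0x536f32a64fe910ee6467c53c237f5582f768b001)

noncomputable def t1 : ℕ := (nat_lit 0x7c525c391b251b650fc6feaab64fb90c397900e2)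

noncomputable def t2 : ℕ := (nat_lit 0xa1cb674d84570dfd41724ec598dde1f57b803503)

noncomputable def t3 : ℕ := (nat_lit 0xc958891bf582f071edf78895db343ca6bc09b924)

noncomputable def t4 : ℕ := (nat_lit 0x36ab05f8878b7a3626fc122d3d864ec7c19a3d45)

noncomputable def t5 : ℕ := (nat_lit 0x2e68f513d37247dc3502e5e470eed1603faac166)

noncomputable def tabs : List ℕ := [t0, t1, t2, t3, t4, t5]

noncomputable def ws : ℕ := (nat_lit 0x6545352515645434241463534323136252423212615141312106050403020100)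

/-- The multiplication of codes. -/
noncomputable def mu : ℕ → ℕ → ℕ := muW 5 tabs 8 ws 2

/-- The codes of the letters. -/
def gc : ℕ → ℕ := nthL 0 [1, 2, 3, 4, 5, 6]

theorem exists_reg {G : Type*} [Group G] [Finite G] {g : ℕ → G} (he : ∀ i, 6 ≤ i → g i = 1)
    (hg : ∀ r ∈ JHJq.rels, ev g r = 1) (hc : 32 ≤ Nat.card (genL g (List.range 6))) :
    ∃ f, Reg (genL g (List.range 6)) 32 mu f ∧ Cor 32 f gc g := by
  obtain ⟨f, R, h⟩ := HJ.exists_reg (w := 5) (tabs := tabs) (v := 8) (ws := ws) (fuel := 2) JHJq.ok hg JHJq.inv JHJq.fin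
    (JHJq.est (he _ (by decide)) hg fun _ h => nomatch h) rfl (by decide) (fun x hx => tabOf_of_chk (L := 5) JHJq.ok [x]
      (allLt_iff.1 (by decide +kernel : allLt 6 (fun x => band (band (Nat.ble 32 (Nat.pow 2 5)) (band (Nat.ble 5 5)
        (Nat.blt 0 5))) (Nat.beq (nthL (nthL 0 tabs 0) tabs x) (tabW JHJq.nets 32 5 5 [x]))) = true) x hx))
    (by decide +kernel) hc
  refine ⟨f, R, fun i => ?_⟩
  rcases lt_or_ge i 6 with hi | hi
  · have := allLt_iff.1 (by decide +kernel : allLt 6 (fun x => band (Nat.blt (gc x) 32)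
      (Nat.beq (tbl 5 tabs x (gc x)) 0)) = true) i hi
    rw [band_eq, Bool.and_eq_true, nblt, nbeq] at this
    exact ⟨this.1, h i hi _ this.1 this.2⟩
  · rw [gc, nthL_eq, List.getD_eq_default _ _ hi, he i hi]
    exact ⟨R.pos, R.one⟩

end TQ

end Cfsg.Agent.HJ
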