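import Cfsg.Agent.HJ.Rho
import Cfsg.Agent.S3035
import Cfsg.Agent.Invol.ZS
import Cfsg.Agent.Invol.Dihedral
import Cfsg.Agent.Spor.J.HJa
import Cfsg.Agent.Spor.J.HJb
import Cfsg.Agent.Spor.J.HJc
import Cfsg.Agent.Spor.J.HJd
import Cfsg.Agent.Spor.J.HJe
import Cfsg.Agent.Spor.J.HJf
import Cfsg.Agent.Spor.J.HJg

/-! The centraliser of the element `a` of order three (helper24): `C(a)/⟨a⟩` has an involution with centraliser `D8`;
`Amal.three`: the extra relations `(r e)^10 = 1` and `(r e r⁻¹ e)^4 ∈ {1, a}`. -/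

set_option autoImplicit false
set_option maxRecDepth 100000

namespace Cfsg.Agent.HJ

open Cfsg.Agent.Comp Cfsg.Agent.Spor Subgroup Equiv

theorem s4_ord : ∀ g : Perm (Fin 4), Perm.sign g = 1 → g * g * (g * g) = 1 → g * g = 1 := by decide +kernel
theorem s5_ord : ∀ g : Perm (Fin 5), Perm.sign g = 1 → g * g * (g * g) = 1 → g * g = 1 := by decide +kernel
theorem a6_ord : ∀ g : Perm (Fin 6), Perm.sign g = 1 →
    g * g * g = 1 ∨ g * g * (g * g) = 1 ∨ g * g * (g * g) * g = 1 := by decide +kernel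

theorem l32_ord (M : Matrix (Fin 3) (Fin 3) (ZMod 2)) (h : M.det = 1) : M * M * M = 1 ∨ M * M * (M * M) = 1 ∨
    (M * M * (M * M) * (M * M) * M = 1 ∧ M.trace ≠ (M * M * (M * M) * (M * M)).trace) := by
  rw [Matrix.eta_fin_three M] at h ⊢
  rw [Matrix.det_fin_three] at h
  revert h
  generalize M 0 0 = a, M 0 1 = b, M 0 2 = c, M 1 0 = d, M 1 1 = e, M 1 2 = f, M 2 0 = g, M 2 1 = h, M 2 2 = i
  revert a b c d e f g h i
  decide +kernel

theorem l32_real (p q : Matrix.SpecialLinearGroup (Fin 3) (ZMod 2)) (hp : p * p = 1) (hq : q * q = 1) :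
    (p * q) ^ 3 = 1 ∨ (p * q) ^ 4 = 1 := by
  rcases l32_ord (p * q).1 (p * q).2 with h | h | ⟨h, h'⟩
  · exact .inl (by rw [pow_three']; exact Subtype.ext h)
  · exact .inr (by rw [show 4 = 2 + 2 from rfl, pow_add, pow_two]; exact Subtype.ext h)
  · have e : p * q * (p * q) * (p * q * (p * q)) * (p * q * (p * q)) = q * p := by
      have : p * q * (p * q) * (p * q * (p * q)) * (p * q * (p * q)) * (p * q) = 1 := Subtype.ext h
      rw [eq_inv_of_mul_eq_one_left this, mul_inv_rev, inv_of_sq hp, inv_of_sq hq]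
    exact absurd ((Matrix.trace_mul_comm p.1 q.1).trans (congrArg (fun u => Matrix.trace u.1) e).symm) h'

theorem bar {Y : Type*} [Group Y] [Finite Y] {s t z r q : Y} (ss : s * s = 1) (tt : t * t = 1) (zz : z * z = 1)
    (st : s * t * (s * t) = z) (z1 : z ≠ 1) (sz : s ≠ z) (cs : Commute s z) (ct : Commute t z) (rz : κ r z = s)
    (qz : κ q z = t) (hC : ∀ d ∈ centralizer {z}, InD s t d) :
    (∀ p p' : Y, p * p = 1 → p' * p' = 1 → (p * p') ^ 3 = 1 ∨ (p * p') ^ 4 = 1) ∨
      ∀ g : Y, g ^ 3 = 1 ∨ g ^ 4 = 1 ∨ g ^ 5 = 1 := by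
  have hn : orderOf (s * t) = 4 :=
    orderOf_eq_prime_pow (p := 2) (n := 1) (by rw [pow_one, pow_two, st]; exact z1)
      (by rw [show 2 ^ (1 + 1) = 2 + 2 from rfl, pow_add, pow_two, st, zz])
  have hD : Nonempty (centralizer ({z} : Set Y) ≃* DihedralGroup 4) := by
    refine Invol.nonempty_equiv_dihedral ss (Invol.conj_prod_left ss tt) hn (fun ⟨k, hk⟩ => z1 ?_) fun d => ⟨fun h => ?_, ?_⟩
    · have : Commute s (s * t) := by nth_rw 1 [← hk]; exact (Commute.refl _).zpow_left k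
      rw [← st, mul_assoc, ← mul_assoc t, ← mul_left_cancel (this.eq.trans (mul_assoc _ _ _)), mul_assoc, tt, mul_one, ss]
    · rcases hC d h with h | h | h | h | h | h | h | h
      exacts [⟨0, .inl (by simp [h])⟩, ⟨1, .inl (by simp [h])⟩, ⟨2, .inl (by rw [h, zpow_two])⟩,
        ⟨3, .inl (by rw [h, zpow_ofNat, pow_three'])⟩, ⟨0, .inr (by simp [h])⟩, ⟨1, .inr (by simp [h])⟩,
        ⟨2, .inr (by rw [h, zpow_two])⟩, ⟨3, .inr (by rw [h, zpow_ofNat, pow_three'])⟩]
    · rintro ⟨k, rfl | rfl⟩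
      exacts [memC.2 ((cs.mul_left ct).zpow_left k).eq, memC.2 (cs.mul_left ((cs.mul_left ct).zpow_left k)).eq]
  have P : ∀ {n : ℕ} (φ : Y ≃* Perm (Fin n)),
      (∀ g : Perm (Fin n), Perm.sign g = 1 → g * g * (g * g) = 1 → g * g = 1) → False := fun φ h => by
    have h1 : Perm.sign (φ z) = 1 := by rw [← st, map_mul, map_mul, Int.units_mul_self]
    have h2 : ∀ u, Perm.sign (φ (κ u z)) = 1 := fun u => by simp [h1]
    have := h (φ (s * t)) (by rw [map_mul, map_mul, ← rz, ← qz, h2, h2, one_mul])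
      (by rw [← map_mul, st, ← map_mul, zz, map_one])
    rw [← map_mul, st] at this
    exact z1 (φ.map_eq_one_iff.1 this)
  rcases S3035.result z (Invol.orderOf_two_iff.2 ⟨zz, z1⟩) hD with h | ⟨⟨φ⟩⟩ | ⟨⟨φ⟩⟩ | ⟨⟨φ⟩⟩ | ⟨⟨φ⟩⟩
  · exfalso
    have hr : r ∈ ((pPrimeCore 2 Y ⊔ centralizer {z} : Subgroup Y) : Set Y) := by rw [sup_comm]; exact h ▸ mem_top r
    rw [normal_mul] at hr
    obtain ⟨o, ho, c, hc, rfl⟩ := hr
    have : s * z ∈ pPrimeCore 2 Y := by
      rw [← rz, cj_mul, cj_eq.2 (memC.1 hc), MulAut.conj_apply, mul_assoc, mul_assoc]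
      have := (inferInstance : (pPrimeCore 2 Y).Normal).conj_mem _ (inv_mem ho) z
      rw [inv_of_sq zz, mul_assoc] at this
      exact mul_mem ho this
    have := Invol.eq_one_of_odd_of_mul_self (Invol.odd_orderOf_of_mem Invol.odd_oddCore this)
      (by rw [← pow_two, cs.mul_pow, pow_two, pow_two, ss, zz, one_mul])
    exact sz ((eq_inv_of_mul_eq_one_left this).trans (inv_of_sq zz))
  · exact (P φ s4_ord).elim
  · exact (P φ s5_ord).elim
  · refine .inl fun p p' hp hp' => ?_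
    simpa only [← map_mul, ← map_pow, φ.map_eq_one_iff] using
      l32_real (φ p) (φ p') (by rw [← map_mul, hp, map_one]) (by rw [← map_mul, hp', map_one])
  · refine .inr fun g => ?_
    rw [← φ.map_eq_one_iff, ← φ.map_eq_one_iff (x := g ^ 4), ← φ.map_eq_one_iff (x := g ^ 5)]
    simpa [Subtype.ext_iff, pow_succ, mul_assoc] using a6_ord (φ g).1 (Perm.mem_alternatingGroup.1 (φ g).2)

theorem ev_rep {M : Type*} [Monoid M] (g : ℕ → M) (w : List ℕ) (k : ℕ) :
    ev g (List.replicate k w).flatten = ev g w ^ k := by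
  induction k with
  | zero => simp
  | succ k ih => rw [List.replicate_succ, List.flatten_cons, ev_append, ih, pow_succ]

variable {G : Type*} [Group G]

theorem zpow3_sq {a b : G} (h : a * a * a = 1) (hb : b ∈ zpowers a) (h2 : b * b = 1) : b = 1 := by
  rcases zpow3 h hb with rfl | rfl | rfl
  · rfl
  · simpa [h2] using h
  · have : a * a = 1 := by rwa [← mul_inv_rev, inv_eq_one] at h2
    simpa [this] using h

theorem zpow3_inv {a b u : G} (h : a * a * a = 1) (hb : b ∈ zpowers a) (hu : κ u a = a⁻¹) (hc : κ u b = b) :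
    b = 1 := by
  refine zpow3_sq h hb ?_
  obtain ⟨n, rfl⟩ := mem_zpowers_iff.1 hb
  nth_rw 1 [← hc]
  rw [map_zpow, hu, inv_zpow, inv_mul_cancel]

namespace Amal

variable [Finite G] {a x e s z t r : G} (M : Amal a x e s z t r)
include M

theorem kea : κ e a = a⁻¹ := by rw [MulAut.conj_apply, inv_of_sq M.ee, M.eae]

theorem three_aux : ((t * r * e) ^ 6 = 1 ∨ (t * r * e) ^ 8 = 1) ∨
    (((r * e) ^ 6 = 1 ∨ (r * e) ^ 8 = 1 ∨ (r * e) ^ 10 = 1) ∧
      ((r * e * r⁻¹ * e) ^ 3 ∈ zpowers a ∨ (r * e * r⁻¹ * e) ^ 4 ∈ zpowers a ∨ (r * e * r⁻¹ * e) ^ 5 ∈ zpowers a)) := by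
  let X := centralizer ({a} : Set G)
  let a' : X := ⟨a, memC.2 rfl⟩
  haveI : (zpowers a').Normal := ⟨fun b hb g => by
    obtain ⟨n, rfl⟩ := mem_zpowers_iff.1 hb
    have : Commute g a' := Subtype.ext (memC.1 g.2)
    rw [(this.zpow_right n).eq, mul_inv_cancel_right]; exact hb⟩
  let π := QuotientGroup.mk' (zpowers a')
  have ker : ∀ u : X, π u = 1 ↔ (u : G) ∈ zpowers a := fun u => (QuotientGroup.eq_one_iff u).trans
    ⟨fun ⟨n, h⟩ => ⟨n, congrArg Subtype.val h⟩, fun ⟨n, h⟩ => ⟨n, Subtype.ext h⟩⟩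
  have he : ∀ u : G, u ∈ X → κ e u ∈ X := fun u hu => memC.2 (by
    have := (cj_comm (g := e)).2 (Commute.inv_right (memC.1 hu)).eq
    rwa [map_inv, M.kea, inv_inv] at this)
  let s' : X := ⟨s, memC.2 M.as.symm.eq⟩
  let t' : X := ⟨t, memC.2 M.at'.symm.eq⟩
  let z' : X := ⟨z, memC.2 M.az.symm.eq⟩
  let r' : X := ⟨r, memC.2 (cj_eq.1 M.ra)⟩
  let q' : X := ⟨κ e r, he r r'.2⟩
  have ei := inv_of_sq M.ee
  have H := bar (s := π s') (t := π t') (z := π z') (r := π r') (q := π q')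
    (by rw [← map_mul]; exact (congrArg π (Subtype.ext M.ss)).trans (map_one π))
    (by rw [← map_mul]; exact (congrArg π (Subtype.ext M.tt)).trans (map_one π))
    (by rw [← map_mul]; exact (congrArg π (Subtype.ext M.zz)).trans (map_one π))
    (by simp only [← map_mul]; exact congrArg π (Subtype.ext M.stst))
    (fun h => M.z1 (zpow3_sq M.aaa ((ker _).1 h) M.zz))
    (fun h => M.sz' (by
      have := zpow3_sq M.aaa ((ker (s' * z'⁻¹)).1 (by rw [map_mul, map_inv, h, mul_inv_cancel]))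
        (by change s * z⁻¹ * (s * z⁻¹) = 1
            rw [inv_of_sq M.zz, ← pow_two, M.sz.mul_pow, pow_two, pow_two, M.ss, M.zz, one_mul])
      exact mul_inv_eq_one.1 this))
    (Commute.map (Subtype.ext M.sz.eq) π) (Commute.map (Subtype.ext M.tz.eq) π)
    (by rw [MulAut.conj_apply, ← map_inv, ← map_mul, ← map_mul]; exact congrArg π (Subtype.ext M.rz))
    (by rw [MulAut.conj_apply, ← map_inv, ← map_mul, ← map_mul]
        refine congrArg π (Subtype.ext ?_)
        change κ (κ e r) z = t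
        rw [← cj_eq.2 M.ez.eq, ← cj_cj, M.rz, MulAut.conj_apply, ei, M.ese])
    (fun d hd => by
      obtain ⟨h, rfl⟩ := QuotientGroup.mk'_surjective _ d
      have b1 : κ (h : G) z * z⁻¹ ∈ zpowers a := (ker (h * z' * h⁻¹ * z'⁻¹)).1 (by
        rw [map_mul, map_mul, map_mul, map_inv, map_inv]
        exact mul_inv_eq_one.2 (cj_eq.2 (memC.1 hd)))
      have b2 : Commute (κ (h : G) z * z⁻¹) z := by
        obtain ⟨n, hn⟩ := mem_zpowers_iff.1 b1
        rw [← hn]; exact M.az.zpow_left n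
      have b3 := zpow3_sq M.aaa b1 (by
        have := b2.mul_pow 2
        rwa [inv_mul_cancel_right, ← map_pow, pow_two, pow_two, M.zz, map_one, mul_one, eq_comm] at this)
      have D : ∀ u : X, InD s t u → InD (π s') (π t') (π u) := fun u hu => by
        simp only [InD, ← map_mul]
        have k : ∀ v : X, (u : G) = v → π u = π v := fun v h => congrArg π (Subtype.ext h)
        exact hu.imp (fun h => (k 1 h).trans (map_one π)) (.imp (k _) (.imp (k _) (.imp (k _) (.imp (k _) (.imp (k _)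
          (.imp (k _) (k _)))))))
      have pa : π a' = 1 := (ker _).2 (mem_zpowers a)
      rcases M.ca h (memC.2 (cj_eq.1 (mul_inv_eq_one.1 b3))) (memC.1 h.2) with k | k | k
      · exact D h k
      · have := D (h * a') k
        rwa [map_mul π h, pa, mul_one] at this
      · have := D (h * a'⁻¹) k
        rwa [map_mul π h, map_inv, pa, inv_one, mul_one] at this)
  have I : ∀ (u : G) (v : X) (k : ℕ), κ u a = a⁻¹ → (v : G) = u * u → π v ^ k = 1 → u ^ (2 * k) = 1 :=
    fun u v k h1 h2 h3 => by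
      rw [← map_pow, ker, SubgroupClass.coe_pow, h2, ← pow_two, ← pow_mul] at h3
      exact zpow3_inv M.aaa h3 h1 (cj_eq.2 ((Commute.refl u).pow_right _).eq)
  rcases H with H | H
  · have h1 : κ (t * r * e) a = a⁻¹ := by rw [cj_mul, cj_mul, M.kea, map_inv, map_inv, M.ra, cj_eq.2 M.at'.symm.eq]
    let m : X := t' * r'
    let m' : X := ⟨κ e m, he _ m.2⟩
    have h2 : ((m * m' : X) : G) = t * r * e * (t * r * e) := by simp [m, m', t', r', ei, mul_assoc]
    have mm : m * m = 1 := Subtype.ext M.tr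
    have := H (π m) (π m') (by rw [← map_mul, mm, map_one]) (by
      rw [← map_mul, show m' * m' = 1 from Subtype.ext (by
        change κ e m * κ e m = 1
        rw [← map_mul, ← coe_mul, mm, coe_one, map_one]), map_one])
    rw [← map_mul] at this
    exact .inl (this.imp (I _ _ 3 h1 h2) (I _ _ 4 h1 h2))
  · have h1 : κ (r * e) a = a⁻¹ := by rw [cj_mul, M.kea, map_inv, M.ra]
    have h2 : ((r' * q' : X) : G) = r * e * (r * e) := by simp [q', r', ei, mul_assoc]
    refine .inr ⟨(H (π (r' * q'))).imp (I _ _ 3 h1 h2) (Or.imp (I _ _ 4 h1 h2) (I _ _ 5 h1 h2)), ?_⟩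
    have h3 : ((r' * q'⁻¹ : X) : G) = r * e * r⁻¹ * e := by simp [q', r', ei, mul_assoc]
    simpa only [← map_pow, ker, SubgroupClass.coe_pow, h3] using H (π (r' * q'⁻¹))

theorem three : (r * e) ^ 10 = 1 ∧ ((r * e * r⁻¹ * e) ^ 4 = 1 ∨ (r * e * r⁻¹ * e) ^ 4 = a) := by
  have he := let9_ge a x e s z t r 255 (by decide)
  have R2 : ∀ k, (r * e) ^ k = 1 → ev (let9 a x e s z t r) (List.replicate k [3, 7]).flatten = 1 := fun k h => by
    rw [ev_rep, ← h]; exact congrArg (· ^ k) (congrArg (· * e) (one_mul r))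
  have R3 : ∀ k, (t * r * e) ^ k = 1 → ev (let9 a x e s z t r) (List.replicate k [3, 7, 6]).flatten = 1 := fun k h => by
    rw [ev_rep, ← h]; exact congrArg (· ^ k) (congrArg (· * r * e) (one_mul t))
  have R4 : ∀ k, ev (let9 a x e s z t r) (List.replicate k [3, 8, 3, 7]).flatten = (r * e * r⁻¹ * e) ^ k := fun k => by
    rw [ev_rep]; exact congrArg (· ^ k) (congrArg (· * e * r⁻¹ * e) (one_mul r))
  have C : ∀ b ∈ zpowers a, b ^ 3 = 1 := fun b hb => by
    obtain ⟨n, rfl⟩ := mem_zpowers_iff.1 hb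
    rw [← zpow_natCast, ← zpow_mul, mul_comm, zpow_mul, zpow_natCast, pow_three', M.aaa, one_zpow]
  rcases M.three_aux with (h | h) | ⟨h | h | h, k⟩
  · exact (M.collapse (JHJd.seedsOk he (rels_of_sub (M.base' (R3 _ h)) (by decide +kernel)))).elim
  · exact (M.collapse (JHJe.seedsOk he (rels_of_sub (M.base' (R3 _ h)) (by decide +kernel)))).elim
  · exact (M.collapse (JHJa.seedsOk he (rels_of_sub (M.base' (R2 _ h)) (by decide +kernel)))).elim
  · exact (M.collapse (JHJb.seedsOk he (rels_of_sub (M.base' (R2 _ h)) (by decide +kernel)))).elim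
  refine ⟨h, ?_⟩
  have B := M.base' (R2 _ h)
  rcases k with k | k | k
  · have := C _ k
    rw [← pow_mul, ← R4] at this
    exact (M.collapse (JHJf.seedsOk he (rels_of_sub (List.forall_mem_cons.2 ⟨this, B⟩) (by decide +kernel)))).elim
  · rcases zpow3 M.aaa k with k | k | k
    · exact .inl k
    · exact .inr k
    · have : ev (let9 a x e s z t r) (0 :: (List.replicate 4 [3, 8, 3, 7]).flatten) = 1 := by
        rw [ev_cons, R4, k]; exact inv_mul_cancel a
      exact (M.collapse (JHJc.seedsOk he (rels_of_sub (List.forall_mem_cons.2 ⟨this, B⟩) (by decide +kernel)))).elim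
  · have := C _ k
    rw [← pow_mul, ← R4] at this
    exact (M.collapse (JHJg.seedsOk he (rels_of_sub (List.forall_mem_cons.2 ⟨this, B⟩) (by decide +kernel)))).elim

end Amal

end Cfsg.Agent.HJ
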