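import Cfsg.Agent.HJ.Three
import Cfsg.Agent.HJ.Hom
import Cfsg.Agent.ZC.Main
import Cfsg.Agent.Comp.Class

/-! Recognition of `J2` and `J3` from the standard generators of `C(z)` (helper24): `Amal.eq_top`, `Loc.main`. -/

set_option autoImplicit false

namespace Cfsg.Agent.HJ

open Cfsg.Agent.Comp Cfsg.Agent.Spor Subgroup

variable {G : Type*} [Group G]

theorem isConj_cj (g p : G) : IsConj p (κ g p) := isConj_iff.2 ⟨g, rfl⟩

theorem fix_iff {K : Subgroup G} {u g : G} : u • (g : G ⧸ K) = g ↔ κ g⁻¹ u ∈ K := by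
  rw [MulAction.Quotient.smul_coe, eq_comm, QuotientGroup.eq]; simp [mul_assoc]

variable [Finite G] {a x e s z t r : G}

theorem Loc.into (L : Loc a x e s z t) {K : Subgroup G} (hK : centralizer {z} ≤ K) (hodd : ¬ 2 ^ (7 + 1) ∣ Nat.card K)
    {u : G} (hu : u ∈ K) (h2 : u * u = 1) : ∃ g ∈ K, κ g u ∈ centralizer {z} := by
  obtain ⟨P, hP⟩ := Sylow.exists_subgroup_card_pow_prime (G := centralizer ({z} : Set G)) 2 (n := 7)
    (by rw [L.card]; decide)
  obtain ⟨g, hg, h⟩ := Comp.exists_conj_mem_sylow (P := P.map (centralizer {z}).subtype) (j := 1) Nat.prime_two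
    ((map_subtype_le P).trans hK) (by rw [card_map_of_injective (subtype_injective _), hP]) rfl hodd hu
    (by rw [pow_one, pow_two, h2])
  exact ⟨g, hg, map_subtype_le P h⟩

theorem Amal.all (M : Amal a x e s z t r) (hx : IsConj z x) {h : G} (hh : h ∈ centralizer {z}) (h2 : h * h = 1)
    (h1 : h ≠ 1) : IsConj z h := by
  rcases M.cl h hh h2 with k | k | ⟨k, -, c⟩ | ⟨k, -, c⟩
  · exact absurd k h1
  · rw [k]
  · exact hx.trans (cj_eq.2 c ▸ isConj_cj k x)
  · exact (M.rz ▸ isConj_cj r z).trans (cj_eq.2 c ▸ isConj_cj k s)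

theorem Amal.eq_top (M : Amal a x e s z t r) {K : Subgroup G} (hK : centralizer {z} ≤ K) (hr : r ∈ K)
    (hodd : ¬ 2 ^ (7 + 1) ∣ Nat.card K) (hx : ¬ IsConj z x ∨ ∃ k ∈ K, κ k z = x) : K = ⊤ := by
  have two : ∀ u, IsConj z u → orderOf u = 2 := fun u hu =>
    (Invol.orderOf_of_isConj hu).symm.trans (Invol.orderOf_two_iff.2 ⟨M.zz, M.z1⟩)
  have fus : ∀ u ∈ K, IsConj z u → ∃ k ∈ K, κ k z = u := fun u hu hc => by
    obtain ⟨g, hg, h⟩ := M.into hK hodd hu (Invol.mul_self_of (two u hc))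
    rcases M.cl _ h (by rw [← map_mul, Invol.mul_self_of (two u hc), map_one]) with k | k | ⟨k, hk, c⟩ | ⟨k, hk, c⟩
    · exact absurd (cj_one.1 k) (Invol.ne_one_of (two u hc))
    · exact ⟨g⁻¹, inv_mem hg, cj_inv k⟩
    · rcases hx with hx | ⟨k', hk', c'⟩
      · exact absurd ((hc.trans (isConj_cj g u)).trans (cj_eq.2 c ▸ isConj_cj k x).symm) hx
      · exact ⟨g⁻¹ * (k * k'), mul_mem (inv_mem hg) (mul_mem (hK hk) hk'),
          by rw [cj_mul, cj_mul, c', cj_eq.2 c, cj_inv rfl]⟩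
    · exact ⟨g⁻¹ * (k * r), mul_mem (inv_mem hg) (mul_mem (hK hk) hr),
        by rw [cj_mul, cj_mul, M.rz, cj_eq.2 c, cj_inv rfl]⟩
  have un : ∀ c g : G, κ c z • (g : G ⧸ K) = g → (g : G ⧸ K) = c := fun c g h => by
    obtain ⟨k, hk, f⟩ := fus _ (fix_iff.1 h) (by rw [← cj_mul]; exact isConj_cj _ _)
    rw [← cj_mul] at f
    have := hK (memC.2 (cj_eq.1 ((cj_mul _ _ _).trans (cj_inv f))))
    have := mul_mem hk this
    rw [mul_inv_cancel_left] at this
    exact QuotientGroup.eq.2 this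
  have P : ZD.PC G (G ⧸ K) {u | IsConj z u} := by
    refine ⟨two, fun u hu g => IsConj.trans hu (isConj_cj g u), fun u hu => ?_, fun u hu p q hp hq => ?_,
      fun u hu v hv hc hne => ?_⟩ <;> obtain ⟨c, rfl⟩ := isConj_iff.1 hu
    · exact ⟨c, fix_iff.2 (by rw [cj_inv (g := c) (p := z) (q := c * z * c⁻¹) rfl]; exact hK (memC.2 rfl))⟩
    · obtain ⟨p, rfl⟩ := QuotientGroup.mk_surjective p
      obtain ⟨q, rfl⟩ := QuotientGroup.mk_surjective q
      exact (un c p hp).trans (un c q hq).symm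
    · obtain ⟨w, rfl⟩ := (κ c).surjective v
      change IsConj z (κ c z * κ c w)
      rw [← map_mul]
      refine IsConj.trans ?_ (isConj_cj c _)
      have m : w ∈ centralizer {z} := memC.2 (cj_comm.1 hc.eq).symm
      have cw : IsConj z w := IsConj.trans hv (isConj_cj c w).symm
      have w2 := Invol.mul_self_of (two w cw)
      rcases M.cl w m w2 with k | k | ⟨k, hk, f⟩ | ⟨k, hk, f⟩
      · exact absurd k (Invol.ne_one_of (two w cw))
      · exact absurd (by rw [k]; rfl) hne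
      · refine M.all (cw.trans (cj_eq.2 f ▸ isConj_cj k x).symm) (mul_mem (memC.2 rfl) m) ?_ fun h => hne ?_
        · rw [mul_assoc, ← mul_assoc w, memC.1 m, mul_assoc, w2, mul_one, M.zz]
        · rw [eq_inv_of_mul_eq_one_right h, inv_of_sq M.zz]; rfl
      · have : κ (k * (t * r)) z = z * w := by
          rw [cj_mul, cj_mul, M.rz, M.kts, map_mul, cj_eq.2 f, cj_eq.2 (memC.1 hk)]
        exact this ▸ isConj_cj _ z
  have hs : IsConj z s := M.rz ▸ isConj_cj r z
  have ht : IsConj z t := hs.trans (isConj_iff.2 ⟨e, by rw [inv_of_sq M.ee, M.ese]⟩)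
  refine top_le_iff.1 fun g _ => ?_
  by_contra hg
  have h1 : κ (1 : G) z • ((1 : G) : G ⧸ K) = (1 : G) := fix_iff.2 (by simpa using hK (memC.2 rfl))
  have := P.comm_of_two (isConj_cj 1 z) h1 (isConj_cj g z) (fun h => hg (by simpa using QuotientGroup.eq.1 (un g 1 h)))
    hs ht ⟨2, by rw [show 2 ^ 2 = 2 + 2 from rfl, pow_add, pow_two, M.stst, M.zz]⟩
  exact M.z1 (by rw [← M.stst, ← pow_two, this.mul_pow, pow_two, pow_two, M.ss, M.tt, one_mul])

theorem Loc.main (L : Loc a x e s z t) (hc : IsConj z s) : (Cfsg.Spor.IsoJ2 G ∧ ¬ IsConj z x) ∨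
    (Cfsg.Spor.IsoJ3 G ∧ Nat.card G = 50232960 ∧ ∀ u v : G, orderOf u = 2 → orderOf v = 2 → IsConj u v) := by
  obtain ⟨r, M⟩ := L.exists_amal hc
  have hr : r ∈ genL (let9 a x e s z t r) (List.range 9) := mem_genL _ (x := 7) (by decide)
  obtain ⟨h, h' | h'⟩ := M.three
  · obtain ⟨⟨φ⟩, k⟩ := M.j3 h h'
    have c := (Nat.card_congr φ.toEquiv).trans simple3.2
    have T := M.eq_top M.le_G0 hr (by rw [c]; decide) (.inr k)
    rw [T] at φ c
    rw [card_top] at c
    obtain ⟨k, -, hk⟩ := k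
    have A : ∀ u : G, orderOf u = 2 → IsConj z u := fun u hu => by
      obtain ⟨g, -, m⟩ := L.into le_top (by rw [card_top, c]; decide) (mem_top u) (Invol.mul_self_of hu)
      exact (M.all (hk ▸ isConj_cj k z) m (by rw [← map_mul, Invol.mul_self_of hu, map_one])
        (fun h => Invol.ne_one_of hu (cj_one.1 h))).trans (isConj_cj g u).symm
    exact .inr ⟨⟨F4, inferInstance, inferInstance, F4.ω, by decide, by decide, ⟨topEquiv.symm.trans φ⟩⟩, c,
      fun u v hu hv => (A u hu).symm.trans (A v hv)⟩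
  · obtain ⟨⟨φ⟩, k⟩ := M.j2 h h'
    have c := (Nat.card_congr φ.toEquiv).trans Ico.card_J2
    have T := M.eq_top M.le_G0 hr (by rw [c]; decide) (.inl k)
    rw [T] at φ
    exact .inl ⟨⟨topEquiv.symm.trans φ⟩, k⟩

end Cfsg.Agent.HJ
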